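import Cfsg.Agent.Lib.ClassCount.Orthogonal.Count
import Cfsg.Agent.Lib.ClassCount.Symplectic.Bounds
import Mathlib.Analysis.SpecialFunctions.Pow.Real

/-!
# Upper bounds for the class numbers of `O±(2n, q)`, `q` odd

The signed tuples are counted by the coefficient of `u ^ (2n)` in
`∏ k odd, (1 + u ^ k) ^ 4 * ∏ k, 1 / (1 - q u ^ (2k))`, those without signs by the second product.
-/

set_option autoImplicit false

namespace CfsgLib.ClassNumber

/-- The count of a block of size `k` in a symmetric space. -/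
def cO (q k m : ℕ) : ℕ := cS q (k + 1) m

/-- The count of a block without signs. -/
def cN (q m : ℕ) : ℕ := if Odd m then 0 else q ^ (m / 2)

/-- The bound for the signs of the part of size `k`. -/
noncomputable def GA (k : ℕ) : ℝ :=
  if Odd k ∨ 14 ≤ k then (1 + (29 / 50) ^ k) ^ 4 else 1

/-- The sharper bound used for small sizes. -/
noncomputable def GO (k : ℕ) : ℝ :=
  (if k < 14 then (if Odd k then (1 + (2887 / 5000) ^ k) ^ 4 else 1) else GA k) * (1 / (1 - 1 / 3 ^ (k - 1)))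

/-- `∏ GO k` over `2 ≤ k ≤ L + 1`. -/
noncomputable def RP (L : ℕ) : ℝ := ∏ i ∈ Finset.range L, GO (i + 2)

/-- `∏ 1 / (1 - 3 ^ (-j))` over `1 ≤ j ≤ L`. -/
noncomputable def RN (L : ℕ) : ℝ := ∏ i ∈ Finset.range L, 1 / (1 - 1 / 3 ^ (i + 1))

theorem third_pow_lt (j : ℕ) : (1 : ℝ) / 3 ^ (j + 1) ≤ 1 / 3 ∧ 0 < (1 : ℝ) / 3 ^ (j + 1) := by
  refine ⟨one_div_le_one_div_of_le (by norm_num) ?_, by positivity⟩
  calc (3 : ℝ) = 3 ^ 1 := by norm_num
    _ ≤ _ := pow_le_pow_right₀ (by norm_num) (by omega)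

theorem one_le_GO {k : ℕ} (hk : 2 ≤ k) : 1 ≤ GO k := by
  obtain ⟨h1, h0⟩ := third_pow_lt (k - 2)
  rw [show k - 2 + 1 = k - 1 by omega] at h1 h0
  refine one_le_mul_of_one_le_of_one_le ?_ ((le_div_iff₀ (by linarith)).2 (by linarith))
  unfold GA
  split_ifs <;> first | exact le_rfl | exact one_le_pow₀ (le_add_of_nonneg_right (by positivity))

theorem GO_tail (L : ℕ) :
    GO (L + 12 + 2) * (1 - 9 * (29 / 50 : ℝ) ^ (L + 13)) ≤ 1 - 9 * (29 / 50 : ℝ) ^ (L + 14) := by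
  set y : ℝ := (29 / 50) ^ (L + 14) with hy
  have hy0 : 0 ≤ y := by positivity
  have hy1 : y ≤ 1 / 2000 := by
    refine (pow_le_pow_of_le_one (by norm_num) (by norm_num) (show 14 ≤ L + 14 by omega)).trans ?_
    norm_num
  have h3 : (1 : ℝ) / 3 ^ (L + 12 + 2 - 1) ≤ y := by
    rw [show L + 12 + 2 - 1 = L + 13 by omega, div_le_iff₀ (by positivity), hy]
    have e : (29 / 50 : ℝ) ^ (L + 14) * 3 ^ (L + 13) = 29 / 50 * (87 / 50) ^ (L + 13) := by
      rw [show L + 14 = L + 13 + 1 by omega, pow_succ]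
      rw [mul_right_comm, ← mul_pow]
      norm_num
      ring
    rw [e]
    have : (87 / 50 : ℝ) ^ 2 ≤ (87 / 50) ^ (L + 13) := pow_le_pow_right₀ (by norm_num) (by omega)
    nlinarith
  have hGO : GO (L + 12 + 2) ≤ (1 + y) ^ 4 * (1 / (1 - y)) := by
    unfold GO GA
    rw [if_neg (by omega), if_pos (Or.inr (by omega)), show L + 12 + 2 = L + 14 by omega, ← hy]
    refine mul_le_mul_of_nonneg_left ?_ (by positivity)
    rw [show L + 12 + 2 - 1 = L + 14 - 1 by omega] at h3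
    exact one_div_le_one_div_of_le (by linarith) (by linarith)
  have hx : (29 / 50 : ℝ) ^ (L + 13) = 50 / 29 * y := by
    rw [hy, show L + 14 = L + 13 + 1 by omega, pow_succ]
    ring
  rw [hx]
  refine (mul_le_mul_of_nonneg_right hGO (by linarith)).trans ?_
  rw [mul_one_div, div_mul_eq_mul_div, div_le_iff₀ (by linarith)]
  have h4 : (1 + y) ^ 4 ≤ 1 + 5 * y := by
    nlinarith [mul_le_mul_of_nonneg_left hy1 hy0, sq_nonneg y, mul_nonneg hy0 hy0]
  calc (1 + y) ^ 4 * (1 - 9 * (50 / 29 * y)) ≤ (1 + 5 * y) * (1 - 9 * (50 / 29 * y)) :=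
        mul_le_mul_of_nonneg_right h4 (by linarith)
    _ ≤ _ := by nlinarith

theorem RP_twelve : RP 12 ≤ 16 / 3 * (1 - 9 * (29 / 50 : ℝ) ^ 13) := by
  norm_num [RP, GO, GA, Finset.prod_range_succ, Nat.odd_iff]

theorem RP_le (L : ℕ) : RP L ≤ 16 / 3 := by
  have key : ∀ k, RP (k + 12) ≤ 16 / 3 * (1 - 9 * (29 / 50 : ℝ) ^ (k + 13)) := fun k => by
    induction k with
    | zero => exact RP_twelve
    | succ k ih =>
      rw [show k + 1 + 12 = k + 12 + 1 by omega, RP, Finset.prod_range_succ]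
      refine (mul_le_mul_of_nonneg_right ih (zero_le_one.trans (one_le_GO (by omega)))).trans ?_
      rw [mul_assoc, mul_comm _ (GO _), show k + 1 + 13 = k + 14 by omega]
      exact mul_le_mul_of_nonneg_left (GO_tail k) (by norm_num)
  have hmono : RP L ≤ RP (L + 12) := Finset.prod_le_prod_of_subset_of_one_le (Finset.range_mono (by omega))
    (fun i _ => zero_le_one.trans (one_le_GO (by omega))) fun i _ _ => one_le_GO (by omega)
  refine hmono.trans ((key L).trans (mul_le_of_le_one_right (by norm_num) ?_))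
  have : (0 : ℝ) ≤ 9 * (29 / 50) ^ (L + 13) := by positivity
  linarith

theorem RN_le (L : ℕ) : RN L ≤ 2 := by
  have key : ∀ k, RN (k + 3) ≤ 2 * (1 - 3 / 3 ^ (k + 3)) := fun k => by
    induction k with
    | zero => norm_num [RN, Finset.prod_range_succ]
    | succ k ih =>
      obtain ⟨hy1, hy0⟩ := third_pow_lt (k + 3)
      rw [show k + 1 + 3 = k + 3 + 1 by omega, RN, Finset.prod_range_succ]
      refine (mul_le_mul_of_nonneg_right ih (div_nonneg zero_le_one (by linarith))).trans ?_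
      rw [mul_assoc, show (3 : ℝ) / 3 ^ (k + 3) = 9 * (1 / 3 ^ (k + 3 + 1)) by rw [pow_succ]; ring,
        show (3 : ℝ) / 3 ^ (k + 3 + 1) = 3 * (1 / 3 ^ (k + 3 + 1)) by ring]
      refine mul_le_mul_of_nonneg_left ?_ (by norm_num)
      generalize (1 : ℝ) / 3 ^ (k + 3 + 1) = y at hy0 hy1 ⊢
      rw [mul_one_div, div_le_iff₀ (by linarith)]
      nlinarith
  have h1 : ∀ i, (1 : ℝ) ≤ 1 / (1 - 1 / 3 ^ (i + 1)) := fun i => by
    obtain ⟨a, b⟩ := third_pow_lt i
    exact (le_div_iff₀ (by linarith)).2 (by linarith)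
  have hmono : RN L ≤ RN (L + 3) := Finset.prod_le_prod_of_subset_of_one_le (Finset.range_mono (by omega))
    (fun i _ => zero_le_one.trans (h1 i)) fun i _ _ => h1 i
  refine hmono.trans ((key L).trans (mul_le_of_le_one_right (by norm_num) ?_))
  have : (0 : ℝ) ≤ 3 / 3 ^ (L + 3) := by positivity
  linarith

/-- `q ^ (-1/2)`. -/
noncomputable def wu (q : ℕ) : ℝ := (Real.sqrt q)⁻¹

theorem wu_facts {q : ℕ} (hq : 3 ≤ q) :
    0 < wu q ∧ wu q ≤ 2887 / 5000 ∧ wu q ≤ 29 / 50 ∧ (q : ℝ) * wu q ^ 2 = 1 := by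
  have hq3 : (3 : ℝ) ≤ q := by exact_mod_cast hq
  have hs : 0 < Real.sqrt q := Real.sqrt_pos.2 (by linarith)
  have h : wu q ≤ 2887 / 5000 := by
    rw [wu, inv_le_comm₀ hs (by norm_num)]
    refine Real.le_sqrt_of_sq_le ?_
    norm_num
    linarith
  refine ⟨inv_pos.2 hs, h, h.trans (by norm_num), ?_⟩
  rw [wu, inv_pow, Real.sq_sqrt (by linarith)]
  exact mul_inv_cancel₀ (by linarith)

theorem q_mul_pow {q : ℕ} (hq : 3 ≤ q) (k : ℕ) (hk : 1 ≤ k) :
    (q : ℝ) * (wu q ^ k) ^ 2 = (wu q ^ 2) ^ (k - 1) := by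
  obtain ⟨j, rfl⟩ : ∃ j, k = j + 1 := ⟨k - 1, by omega⟩
  rw [Nat.add_sub_cancel, ← pow_mul, mul_comm (j + 1) 2, pow_mul, pow_succ, mul_left_comm, (wu_facts hq).2.2.2, mul_one]

theorem geom_le {q : ℕ} (hq : 3 ≤ q) (k : ℕ) (hk : 2 ≤ k) (M : ℕ) :
    ∑ m ∈ Finset.range M, (cN q m : ℝ) * wu q ^ (k * m) ≤ 1 / (1 - 1 / 3 ^ (k - 1)) := by
  obtain ⟨h0, -, -, hsq⟩ := wu_facts hq
  set x : ℝ := (q : ℝ) * (wu q ^ k) ^ 2 with hx
  have hq3 : (3 : ℝ) ≤ q := by exact_mod_cast hq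
  have hx3 : x ≤ 1 / 3 ^ (k - 1) := by
    rw [hx, q_mul_pow hq k (by omega), ← one_div_pow]
    refine pow_le_pow_left₀ (by positivity) ?_ _
    rw [le_div_iff₀ (by norm_num)]
    nlinarith
  have h13 := (third_pow_lt (k - 2)).1
  rw [show k - 2 + 1 = k - 1 by omega] at h13
  have hx0 : 0 ≤ x := by positivity
  have hterm : ∀ m, (cN q m : ℝ) * wu q ^ (k * m) = if Odd m then 0 else x ^ (m / 2) := fun m => by
    unfold cN
    split_ifs with h
    · simp
    · obtain ⟨l, rfl⟩ := Nat.not_odd_iff_even.1 h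
      rw [show (l + l) / 2 = l by omega, Nat.cast_pow, hx, mul_pow, ← pow_mul, ← pow_mul]
      congr 2
      ring
  simp only [hterm]
  have hex : ∀ L, (1 - x) * ∑ m ∈ Finset.range (2 * L), (if Odd m then 0 else x ^ (m / 2) : ℝ) = 1 - x ^ L := by
    intro L
    induction L with
    | zero => simp
    | succ L ih =>
      rw [show 2 * (L + 1) = 2 * L + 1 + 1 by omega, Finset.sum_range_succ, Finset.sum_range_succ, mul_add,
        mul_add, ih, if_neg (by rw [Nat.odd_iff]; omega), if_pos (by rw [Nat.odd_iff]; omega),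
        show 2 * L / 2 = L by omega, pow_succ]
      ring
  refine le_trans ?_ (one_div_le_one_div_of_le (by linarith) (show 1 - 1 / 3 ^ (k - 1) ≤ 1 - x by linarith))
  rw [le_div_iff₀ (by linarith), mul_comm]
  refine (mul_le_mul_of_nonneg_left (Finset.sum_le_sum_of_subset_of_nonneg
    (Finset.range_mono (show M ≤ 2 * M by omega)) fun m _ _ => by split_ifs <;> positivity) (by linarith)).trans ?_
  rw [hex]
  linarith [pow_nonneg hx0 M]

theorem cO_series_le {q : ℕ} (hq : 3 ≤ q) (k : ℕ) (hk : 2 ≤ k) (M : ℕ) :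
    ∑ m ∈ Finset.range M, (cO q k m : ℝ) * wu q ^ (k * m) ≤ GO k := by
  obtain ⟨h0, h1, h1', hsq⟩ := wu_facts hq
  have hd := third_pow_lt (k - 2)
  rw [show k - 2 + 1 = k - 1 by omega] at hd
  have hpos : 0 ≤ 1 / (1 - 1 / (3 : ℝ) ^ (k - 1)) := div_nonneg zero_le_one (by linarith [hd.1])
  rcases Nat.even_or_odd k with he | ho
  · have e : ∀ m, cO q k m = cN q m := fun m => by rw [cO, cS, if_pos he.add_one, cN]
    simp only [e]
    refine (geom_le hq k hk M).trans (le_mul_of_one_le_left hpos ?_)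
    unfold GA
    split_ifs <;> first | exact le_rfl | exact one_le_pow₀ (le_add_of_nonneg_right (by positivity))
  · have e : ∀ m, (cO q k m : ℝ) * wu q ^ (k * m) = (WS q m : ℝ) * (wu q ^ k) ^ m := fun m => by
      rw [cO, cS, if_neg (Nat.not_odd_iff_even.2 ho.add_one), ← pow_mul]
    simp only [e]
    have hu : (q : ℝ) * (wu q ^ k) ^ 2 ≤ 1 / 3 ^ (k - 1) := by
      rw [q_mul_pow hq k (by omega), ← one_div_pow]
      refine pow_le_pow_left₀ (by positivity) ?_ _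
      rw [le_div_iff₀ (by norm_num)]
      have hq3 : (3 : ℝ) ≤ q := by exact_mod_cast hq
      nlinarith
    refine (WS_series_le (by positivity) (by linarith [hd.1]) M).trans (mul_le_mul ?_
      (one_div_le_one_div_of_le (by linarith [hd.1]) (by linarith)) (div_nonneg zero_le_one (by linarith [hd.1])) ?_)
    · unfold GA
      split_ifs with a
      · exact pow_le_pow_left₀ (by positivity) (add_le_add le_rfl (pow_le_pow_left₀ h0.le h1 _)) _
      · exact pow_le_pow_left₀ (by positivity) (add_le_add le_rfl (pow_le_pow_left₀ h0.le h1' _)) _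
      · exact absurd (Or.inl ho) (by assumption)
    · unfold GA
      split_ifs <;> positivity

theorem cO_one_le {q : ℕ} (hq : 3 ≤ q) (m : ℕ) : (cO q 1 m : ℝ) * wu q ^ m ≤ 28 / 9 := by
  obtain ⟨h0, h1, -, hsq⟩ := wu_facts hq
  have hq3 : (3 : ℝ) ≤ q := by exact_mod_cast hq
  have hu2 : wu q ^ 2 ≤ 1 / 3 := by rw [le_div_iff₀ (by norm_num)]; nlinarith
  rw [cO, cS, if_neg (by rw [Nat.not_odd_iff_even]; exact even_two)]
  rcases Nat.lt_or_ge m 3 with hm | hm
  · interval_cases m <;> simp [WS, NS] <;> nlinarith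
  obtain ⟨l, rfl | rfl⟩ : ∃ l, m = 2 * l + 3 ∨ m = 2 * l + 4 := by
    rcases Nat.even_or_odd m with ⟨l, hl⟩ | ⟨l, hl⟩
    · exact ⟨l - 2, Or.inr (by omega)⟩
    · exact ⟨l - 1, Or.inl (by omega)⟩
  all_goals
    have hp : ((q : ℝ) * wu q ^ 2) ^ l = 1 := by rw [hsq, one_pow]
    rw [mul_pow, ← pow_mul] at hp
  · simp only [WS, NS, show (2 * l + 3 = 0) = False from eq_false (by omega), show (1 ≤ 2 * l + 3) = True from eq_true (by omega),
      show (2 ≤ 2 * l + 3) = True from eq_true (by omega), show (2 * l + 3 - 1 = 0) = False from eq_false (by omega),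
      show (2 * l + 3 - 2 = 0) = False from eq_false (by omega), if_true, if_false,
      show (2 * l + 3) / 2 = l + 1 by omega, show (2 * l + 3 - 1) / 2 = l + 1 by omega,
      show (2 * l + 3 - 1 - 1) / 2 = l by omega, show (2 * l + 3 - 2) / 2 = l by omega,
      show (2 * l + 3 - 2 - 1) / 2 = l by omega]
    push_cast
    calc _ = ((q : ℝ) ^ l * wu q ^ (2 * l)) * ((4 * ((q : ℝ) * wu q ^ 2) + 4 * wu q ^ 2) * wu q) := by ring
      _ ≤ _ := by rw [hp, hsq, one_mul]; nlinarith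
  · simp only [WS, NS, show (2 * l + 4 = 0) = False from eq_false (by omega), show (1 ≤ 2 * l + 4) = True from eq_true (by omega),
      show (2 ≤ 2 * l + 4) = True from eq_true (by omega), show (2 * l + 4 - 1 = 0) = False from eq_false (by omega),
      show (2 * l + 4 - 2 = 0) = False from eq_false (by omega), if_true, if_false,
      show (2 * l + 4) / 2 = l + 2 by omega, show (2 * l + 4 - 1) / 2 = l + 1 by omega,
      show (2 * l + 4 - 1 - 1) / 2 = l + 1 by omega, show (2 * l + 4 - 2) / 2 = l + 1 by omega,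
      show (2 * l + 4 - 2 - 1) / 2 = l by omega]
    push_cast
    calc _ = ((q : ℝ) ^ l * wu q ^ (2 * l)) *
          (((q : ℝ) * wu q ^ 2) ^ 2 + 6 * ((q : ℝ) * wu q ^ 2) * wu q ^ 2 + wu q ^ 2 * wu q ^ 2) := by ring
      _ ≤ _ := by rw [hp, hsq, one_mul, one_pow]; nlinarith

theorem cN_one_le {q : ℕ} (hq : 3 ≤ q) (m : ℕ) : (cN q m : ℝ) * wu q ^ m ≤ 1 := by
  unfold cN
  split_ifs with h
  · simp
  · obtain ⟨l, rfl⟩ := Nat.not_odd_iff_even.1 h
    rw [show (l + l) / 2 = l by omega, Nat.cast_pow, ← two_mul, pow_mul, ← mul_pow, (wu_facts hq).2.2.2, one_pow]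

/-- The coefficient is bounded by the product of the series. -/
theorem sol_sum_le {q : ℕ} (hq : 3 ≤ q) (n l : ℕ) (hl : l + 1 = 2 * n) (c : ℕ → ℕ → ℕ) (G : ℕ → ℝ) (A : ℝ)
    (h1 : ∀ m, (c 1 m : ℝ) * wu q ^ m ≤ A)
    (hG : ∀ k, 2 ≤ k → ∀ M, ∑ m ∈ Finset.range M, (c k m : ℝ) * wu q ^ (k * m) ≤ G k) :
    ((∑ m ∈ sol (l + 1) 1 (l + 1), ∏ i : Fin (l + 1), c (1 + (i : ℕ)) (m i) : ℕ) : ℝ) ≤
      (q : ℝ) ^ n * (A * ∏ i ∈ Finset.range l, G (i + 2)) := by
  obtain ⟨h0, -, -, hsq⟩ := wu_facts hq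
  have hA : 0 ≤ A := le_trans (by positivity) (h1 0)
  have hqn : (q : ℝ) ^ n * wu q ^ (l + 1) = 1 := by rw [hl, pow_mul, ← mul_pow, hsq, one_pow]
  push_cast
  have hterm : ∀ m ∈ sol (l + 1) 1 (l + 1), ∏ i : Fin (l + 1), (c (1 + (i : ℕ)) (m i) : ℝ) ≤
      (q : ℝ) ^ n * (A * ∏ i : Fin l, (c ((i : ℕ) + 2) (Fin.tail m i) : ℝ) * wu q ^ (((i : ℕ) + 2) * Fin.tail m i)) :=
    fun m hm => by
      have hsum := (mem_sol one_ne_zero _).1 hm
      have e : ∏ i : Fin (l + 1), (c (1 + (i : ℕ)) (m i) : ℝ) =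
          (q : ℝ) ^ n * ∏ i : Fin (l + 1), (c (1 + (i : ℕ)) (m i) : ℝ) * wu q ^ ((1 + (i : ℕ)) * m i) := by
        rw [Finset.prod_mul_distrib, Finset.prod_pow_eq_pow_sum, hsum, mul_left_comm, hqn, mul_one]
      rw [e, Fin.prod_univ_succ]
      refine mul_le_mul_of_nonneg_left (mul_le_mul ?_ (le_of_eq ?_) (by positivity) hA) (by positivity)
      · simpa using h1 (m 0)
      · refine Finset.prod_congr rfl fun i _ => ?_
        rw [Fin.val_succ, show 1 + ((i : ℕ) + 1) = (i : ℕ) + 2 by omega]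
        rfl
  have hinj : Set.InjOn (fun m : Fin (l + 1) → ℕ => Fin.tail m) (sol (l + 1) 1 (l + 1)) := fun a ha b hb hab => by
    have ha' := (mem_sol one_ne_zero _).1 ha
    have hb' := (mem_sol one_ne_zero _).1 hb
    rw [Fin.sum_univ_succ] at ha' hb'
    simp only [Fin.val_zero, add_zero, one_mul] at ha' hb'
    have e : ∀ i : Fin l, a i.succ = b i.succ := fun i => congrFun hab i
    simp only [e] at ha'
    funext i
    refine Fin.cases ?_ e i
    omega
  refine (Finset.sum_le_sum hterm).trans ?_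
  rw [← Finset.mul_sum, ← Finset.mul_sum]
  refine mul_le_mul_of_nonneg_left (mul_le_mul_of_nonneg_left ?_ hA) (by positivity)
  rw [← Finset.sum_image hinj
    (f := fun t => ∏ i : Fin l, (c ((i : ℕ) + 2) (t i) : ℝ) * wu q ^ (((i : ℕ) + 2) * t i))]
  refine (Finset.sum_le_sum_of_subset_of_nonneg (t := Fintype.piFinset fun _ : Fin l => Finset.range (l + 1 + 1))
    (fun t ht => ?_) fun t _ _ => Finset.prod_nonneg fun i _ => by positivity).trans ?_
  · obtain ⟨m, hm, rfl⟩ := Finset.mem_image.1 ht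
    exact Fintype.mem_piFinset.2 fun i => Fintype.mem_piFinset.1 (Finset.mem_filter.1 hm).1 i.succ
  · rw [← Fin.prod_univ_eq_prod_range (fun i => G (i + 2)) l, ← Finset.prod_univ_sum
      (f := fun (i : Fin l) a => (c ((i : ℕ) + 2) a : ℝ) * wu q ^ (((i : ℕ) + 2) * a))]
    exact Finset.prod_le_prod (fun i _ => Finset.sum_nonneg fun a _ => by positivity)
      fun i _ => hG _ (by omega) _

open Polynomial
open scoped _root_.Classical

universe u

variable {F : Type u} [Field F] [Fintype F]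

theorem card_sgnTupO_le (h2 : (2 : F) ≠ 0) (N : ℕ) :
    Nat.card (SgnTupO F N) ≤ ∑ m ∈ sol N 1 N, ∏ i : Fin N, cO (Fintype.card F) (1 + (i : ℕ)) (m i) := by
  let f : SgnTupO F N → Σ m : ↥(sol N 1 N), ∀ i : Fin N, Cell F (1 + (i : ℕ) + 1) (m.1 i) := fun t =>
    ⟨⟨t.1.1.deg, (mem_sol one_ne_zero _).2 t.1.1.2.2⟩,
      fun i => ⟨(⟨t.1.1.1 i, (t.1.1.2.1 i).1, rfl, (t.1.1.2.1 i).2⟩, t.1.2 i), t.2 i⟩⟩
  let g : (Σ m : ↥(sol N 1 N), ∀ i : Fin N, Cell F (1 + (i : ℕ) + 1) (m.1 i)) →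
      (Fin N → F[X]) × (Fin N → Bool × Bool) := fun z => (fun i => (z.2 i).1.1.1, fun i => (z.2 i).1.2)
  have hf : Function.Injective f := fun t t' h => by
    have e := congrArg g h
    exact Subtype.ext (Prod.ext (Subtype.ext (congrArg Prod.fst e :)) (congrArg Prod.snd e :))
  refine (Nat.card_le_card_of_injective f hf).trans ?_
  rw [Nat.card_sigma, Finset.univ_eq_attach]
  refine (Finset.sum_attach (sol N 1 N) fun m => Nat.card (∀ i : Fin N, Cell F (1 + (i : ℕ) + 1) (m i))).trans_le ?_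
  refine Finset.sum_le_sum fun m _ => ?_
  rw [Nat.card_pi]
  exact Finset.prod_le_prod' fun i _ => card_cell_le h2 _ _

theorem card_noSign_le (h2 : (2 : F) ≠ 0) (N : ℕ) :
    Nat.card {t : SgnTupO F N // ¬ ∃ i, SignAt t.1.1 i} ≤
      ∑ m ∈ sol N 1 N, ∏ i : Fin N, cN (Fintype.card F) (m i) := by
  let P : ∀ m : ℕ, Mon F m → Prop := fun m g => recipPoly g.1 = g.1 ∧ g.1.coeff 0 = 1 ∧ Even m
  have key : ∀ (t : {t : SgnTupO F N // ¬ ∃ i, SignAt t.1.1 i}) (i : Fin N),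
      (recipPoly (t.1.1.1.1 i) = t.1.1.1.1 i ∧ (t.1.1.1.1 i).coeff 0 = 1 ∧ Even (t.1.1.1.1 i).natDegree) ∧
        t.1.1.2 i = (false, false) := fun t i => by
    obtain ⟨h1, hev, h3, h4⟩ := t.1.2 i
    rcases Nat.even_or_odd (1 + (i : ℕ)) with he | ho
    · obtain ⟨a, b, c⟩ := hev he.add_one
      exact ⟨⟨h1, b, a⟩, c⟩
    · have hns : ¬ ((t.1.1.1.1 i).eval 1 = 0 ∨ (t.1.1.1.1 i).eval (-1) = 0) := fun h => t.2 ⟨i, ho, h⟩
      rw [not_or] at hns
      obtain ⟨a, b⟩ := self_no_root h2 (t.1.1.1.2.1 i).2 h1 hns.1 hns.2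
      refine ⟨⟨h1, b, a⟩, Prod.ext ?_ ?_⟩
      · exact Bool.eq_false_iff.2 fun h => hns.1 (h3 h)
      · exact Bool.eq_false_iff.2 fun h => hns.2 (h4 h)
  let f : {t : SgnTupO F N // ¬ ∃ i, SignAt t.1.1 i} → Σ m : ↥(sol N 1 N), ∀ i : Fin N, {g : Mon F (m.1 i) // P _ g} :=
    fun t => ⟨⟨t.1.1.1.deg, (mem_sol one_ne_zero _).2 t.1.1.1.2.2⟩,
      fun i => ⟨⟨t.1.1.1.1 i, (t.1.1.1.2.1 i).1, rfl, (t.1.1.1.2.1 i).2⟩, (key t i).1⟩⟩
  let g : (Σ m : ↥(sol N 1 N), ∀ i : Fin N, {g : Mon F (m.1 i) // P _ g}) → (Fin N → F[X]) :=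
    fun z i => (z.2 i).1.1
  have hf : Function.Injective f := fun t t' h => by
    have e := congrArg g h
    exact Subtype.ext (Subtype.ext (Prod.ext (Subtype.ext e)
      (funext fun i => (key t i).2.trans (key t' i).2.symm)))
  refine (Nat.card_le_card_of_injective f hf).trans ?_
  rw [Nat.card_sigma, Finset.univ_eq_attach]
  refine (Finset.sum_attach (sol N 1 N) fun m => Nat.card (∀ i : Fin N, {g : Mon F (m i) // P _ g})).trans_le ?_
  refine Finset.sum_le_sum fun m _ => ?_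
  rw [Nat.card_pi]
  refine Finset.prod_le_prod' fun i _ => ?_
  unfold cN
  split_ifs with hm
  · have : IsEmpty {g : Mon F (m i) // P _ g} := ⟨fun g => Nat.not_even_iff_odd.2 hm g.2.2.2⟩
    simp
  · exact (Nat.card_le_card_of_injective
      (fun x : {g : Mon F (m i) // P _ g} => (⟨⟨x.1, x.2.1⟩, x.2.2.1⟩ : {g : SelfMon F (m i) // g.1.1.coeff 0 = 1}))
      fun x y h => Subtype.ext (congrArg (fun z : {g : SelfMon F (m i) // g.1.1.coeff 0 = 1} => z.1.1) h)).trans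
        card_self_one_le

open QuadraticMap (polarBilin) in
/-- The upper bound for one type. -/
theorem orth_classes_le (hodd : Odd (Fintype.card F)) (n : ℕ) (hn : 1 ≤ n) {ι : Type} [Fintype ι] [DecidableEq ι]
    (Q : QuadraticForm F (ι → F)) (hQ : (polarBilin Q).Nondegenerate) (hι : Fintype.card ι = 2 * n) :
    2 * Nat.card (ConjClasses ↥(Cfsg.isometryGroup F (⇑Q))) ≤ 19 * Fintype.card F ^ n := by
  obtain ⟨p, hpF⟩ := CharP.exists F
  obtain ⟨k, hpp, hk⟩ := FiniteField.card F p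
  have : Fact p.Prime := ⟨hpp⟩
  have hp : p ≠ 2 := by
    rintro rfl
    rw [hk] at hodd
    exact Nat.not_even_iff_odd.2 hodd ((Nat.even_pow.2 ⟨even_two, k.ne_zero⟩))
  have h2 : (2 : F) ≠ 0 := fun h => hp ((Nat.prime_dvd_prime_iff_eq hpp Nat.prime_two).1
    ((CharP.cast_eq_zero_iff F p 2).1 (by exact_mod_cast h)))
  have hq : 3 ≤ Fintype.card F := by
    have := Fintype.one_lt_card (α := F)
    rcases hodd with ⟨r, hr⟩
    omega
  obtain ⟨l, hl⟩ : ∃ l, 2 * n = l + 1 := ⟨2 * n - 1, by omega⟩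
  have h := (two_mul_classes_le hp Q hQ (hι.trans hl)).trans
    (Nat.add_le_add (card_sgnTupO_le h2 (l + 1)) (card_noSign_le h2 (l + 1)))
  have hR : ((2 * Nat.card (ConjClasses ↥(Cfsg.isometryGroup F (⇑Q))) : ℕ) : ℝ) ≤
      ((19 * Fintype.card F ^ n : ℕ) : ℝ) := by
    refine (Nat.cast_le.2 h).trans ?_
    have h1 := sol_sum_le hq n l hl.symm (cO (Fintype.card F)) GO (28 / 9) (cO_one_le hq) (cO_series_le hq)
    have h0 := sol_sum_le hq n l hl.symm (fun _ m => cN (Fintype.card F) m) (fun k => 1 / (1 - 1 / 3 ^ (k - 1))) 1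
      (cN_one_le hq) (geom_le hq)
    rw [Nat.cast_add]
    refine (add_le_add h1 h0).trans ?_
    have e0 : ∏ i ∈ Finset.range l, (fun k : ℕ => (1 : ℝ) / (1 - 1 / 3 ^ (k - 1))) (i + 2) = RN l := rfl
    rw [e0, one_mul, ← mul_add]
    push_cast
    rw [mul_comm (19 : ℝ)]
    refine mul_le_mul_of_nonneg_left ?_ (by positivity)
    have := RP_le l
    have := RN_le l
    change 28 / 9 * RP l + RN l ≤ 19
    linarith
  exact_mod_cast hR

end CfsgLib.ClassNumber
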