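import Cfsg.Agent.Lib.ClassCount.Orthogonal.Tup
import Cfsg.Agent.Lib.Classical.Quad.Matrix

/-!
# Classes of an orthogonal group in even dimension against signed tuples

A sign flip pairs off the tuples carrying signs, so twice the class number of one type is at most the
number of all tuples plus the number of those without signs.
-/

set_option autoImplicit false

open Polynomial
open scoped _root_.Classical
open CfsgLib.Classical

namespace CfsgLib.ClassNumber

universe u

variable {F : Type u} [Field F]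

/-- A block of odd size with the eigenvalue `1` or `-1`. -/
def SignAt {N : ℕ} (t : Tup F N) (i : Fin N) : Prop :=
  Odd (1 + (i : ℕ)) ∧ ((t.1 i).eval 1 = 0 ∨ (t.1 i).eval (-1) = 0)

/-- Change one sign. -/
noncomputable def flipSign {N : ℕ} (t : SgnTupO F N) : SgnTupO F N :=
  if h : ∃ i, SignAt t.1.1 i then
    ⟨(t.1.1, Function.update t.1.2 h.choose
      (if (t.1.1.1 h.choose).eval 1 = 0 then (!(t.1.2 h.choose).1, (t.1.2 h.choose).2)
        else ((t.1.2 h.choose).1, !(t.1.2 h.choose).2))), fun i => by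
      by_cases hi : i = h.choose
      · subst hi
        obtain ⟨hodd, hr⟩ := h.choose_spec
        obtain ⟨h1, -, h3, h4⟩ := t.2 h.choose
        dsimp only
        rw [Function.update_self]
        refine ⟨h1, fun ho => absurd ho (Nat.not_odd_iff_even.2 hodd.add_one), fun hs => ?_, fun hs => ?_⟩
        · split_ifs at hs with h0
          · exact h0
          · exact h3 hs
        · split_ifs at hs with h0
          · exact h4 hs
          · exact hr.resolve_left h0
      · dsimp only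
        rw [Function.update_of_ne hi]
        exact t.2 i⟩
  else t

theorem flipSign_tup {N : ℕ} (t : SgnTupO F N) : (flipSign t).1.1 = t.1.1 := by
  rw [flipSign]
  split_ifs <;> rfl

theorem flipSign_sign {N : ℕ} (t : SgnTupO F N) (h : ∃ i, SignAt t.1.1 i) :
    ∀ i, (flipSign t).1.2 i = if i = h.choose then
      (if (t.1.1.1 h.choose).eval 1 = 0 then (!(t.1.2 i).1, (t.1.2 i).2) else ((t.1.2 i).1, !(t.1.2 i).2))
      else t.1.2 i := by
  intro i
  rw [flipSign, dif_pos h]
  by_cases hi : i = h.choose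
  · subst hi
    simp
  · simp [hi]

theorem flipSign_flipSign {N : ℕ} (t : SgnTupO F N) : flipSign (flipSign t) = t := by
  by_cases h : ∃ i, SignAt t.1.1 i
  · have h' : ∃ i, SignAt (flipSign t).1.1 i := by rw [flipSign_tup]; exact h
    have hc : h'.choose = h.choose := by simp only [flipSign_tup]
    refine Subtype.ext (Prod.ext ((flipSign_tup _).trans (flipSign_tup _)) (funext fun i => ?_))
    rw [flipSign_sign _ h', flipSign_sign _ h, hc, flipSign_tup]
    split_ifs <;> simp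
  · rw [flipSign, flipSign, dif_neg h, dif_neg h]

variable [Fintype F] {V : Type u} [AddCommGroup V] [Module F V] [FiniteDimensional F V]

open LinearMap (BilinForm)
open CfsgLib.Classical.ClassTheory

/-- Two isometries of one form do not have tuples differing by a flip. -/
theorem TupData.not_flip {p : ℕ} [Fact p.Prime] [CharP F p] (hp : p ≠ 2) (h2 : (2 : F) ≠ 0) {N : ℕ}
    {B : BilinForm F V} (hA : ∀ u v, B u v = B v u) (hB : B.Nondegenerate) {a a' : V ≃ₗ[F] V}
    (ha : ∀ u v, B (a u) (a v) = B u v) (ha' : ∀ u v, B (a' u) (a' v) = B u v) {t : SgnTupO F N}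
    (hs : ∃ i, SignAt t.1.1 i) (h : TupData B a t) (h' : TupData B a' (flipSign t)) : False := by
  obtain ⟨μ, μ', S₁, S₂, T₁, T₂, Q, hd, hd', hle, hle', hsg, hsg', hroot⟩ := h.common h2 h' (flipSign_tup t).symm
  obtain ⟨⟨p1, -, hS1⟩, p2, -, hS2⟩ := hd.signs
  obtain ⟨⟨-, -, hT1⟩, -, -, hT2⟩ := hd'.signs
  set i₀ := hs.choose with hi₀
  obtain ⟨hodd, hr⟩ := hs.choose_spec
  have hflip := fun i => (hsg' i).symm.trans (flipSign_sign t hs i)
  have hne : ∀ i : Fin N, 1 + (i : ℕ) ≠ 1 + (i₀ : ℕ) → i ≠ i₀ := fun i h e => h (by rw [e])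
  have hother : ∀ i : Fin N, i ≠ i₀ → (1 + (i : ℕ) ∈ S₁ ↔ 1 + (i : ℕ) ∈ T₁) ∧
      (1 + (i : ℕ) ∈ S₂ ↔ 1 + (i : ℕ) ∈ T₂) := fun i hi => by
    have e := hflip i
    rw [if_neg hi, hsg i] at e
    exact ⟨(decide_eq_decide.1 (congrArg Prod.fst e)).symm, (decide_eq_decide.1 (congrArg Prod.snd e)).symm⟩
  have e0 := hflip i₀
  rw [if_pos hi₀, hsg i₀] at e0
  have toggled : ∀ {ν : Multiset ℕ} {S T : Finset ℕ}, (∀ a ∈ ν, 0 < a) → ν.sum ≤ N → (∀ j ∈ S, Odd j ∧ j ∈ ν) →
      (∀ j ∈ T, Odd j ∧ j ∈ ν) → (∀ i : Fin N, i ≠ i₀ → (1 + (i : ℕ) ∈ S ↔ 1 + (i : ℕ) ∈ T)) →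
      decide (1 + (i₀ : ℕ) ∈ T) = !decide (1 + (i₀ : ℕ) ∈ S) →
      ∀ i ∈ ν, Odd i → ((i ∈ S ↔ i ∈ T) ↔ i ≠ 1 + (i₀ : ℕ)) := by
    intro ν S T hν hνs hS hT hoth htog i _ _
    constructor
    · rintro hiff rfl
      rw [decide_eq_decide.2 hiff] at htog
      exact Bool.eq_not_self _ |>.1 htog
    · exact fun hi => finset_ext_of_signs hν hνs hS hT _ (fun l hl => hoth l (hne l hl)) i hi
  have equal : ∀ {ν : Multiset ℕ} {S T : Finset ℕ}, (∀ a ∈ ν, 0 < a) → ν.sum ≤ N → (∀ j ∈ S, Odd j ∧ j ∈ ν) →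
      (∀ j ∈ T, Odd j ∧ j ∈ ν) → (∀ i : Fin N, i ≠ i₀ → (1 + (i : ℕ) ∈ S ↔ 1 + (i : ℕ) ∈ T)) →
      (1 + (i₀ : ℕ) ∈ S ↔ 1 + (i₀ : ℕ) ∈ T) → S = T := by
    intro ν S T hν hνs hS hT hoth h0
    refine Finset.ext fun j => ?_
    by_cases hj : j = 1 + (i₀ : ℕ)
    · rw [hj]; exact h0
    · exact finset_ext_of_signs hν hνs hS hT _ (fun l hl => hoth l (hne l hl)) j hj
  have hd0 : discChar B ≠ 0 := by
    set b := (Module.finBasis F V).equivFun
    rw [discChar]
    refine fun h0 => ?_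
    obtain ⟨y, hy0, hy⟩ := Matrix.exists_mulVec_eq_zero_iff.2 (quadraticChar_eq_zero_iff.1 h0)
    refine hy0 (b.symm.injective ?_)
    rw [map_zero]
    refine hB.2 _ fun u => ?_
    have e : ∀ x, LinearMap.toMatrix₂' F (B.compl₁₂ b.symm.toLinearMap b.symm.toLinearMap) = x →
        ∀ v, v ⬝ᵥ Matrix.mulVec x y = B (b.symm v) (b.symm y) := by
      rintro x rfl v
      rw [← Matrix.toLinearMap₂'_apply', Matrix.toLinearMap₂'_toMatrix']
      rfl
    have := e _ rfl (b u)
    rw [hy, dotProduct_zero, b.symm_apply_apply] at this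
    exact this.symm
  have key : discChar B = -discChar B := by
    by_cases h1 : (t.1.1.1 i₀).eval 1 = 0
    · rw [if_pos h1] at e0
      refine hd.discChar_toggle hp h2 hA hB ha hA hB ha' rfl hd' hodd (Or.inl ⟨(hroot i₀).1 h1, ?_, ?_⟩)
      · exact equal p2 hle' hS2 hT2 (fun i hi => (hother i hi).2) (decide_eq_decide.1 (congrArg Prod.snd e0)).symm
      · exact toggled p1 hle hS1 hT1 (fun i hi => (hother i hi).1) (congrArg Prod.fst e0)
    · rw [if_neg h1] at e0
      refine hd.discChar_toggle hp h2 hA hB ha hA hB ha' rfl hd' hodd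
        (Or.inr ⟨(hroot i₀).2 (hr.resolve_left h1), ?_, ?_⟩)
      · exact equal p1 hle hS1 hT1 (fun i hi => (hother i hi).1) (decide_eq_decide.1 (congrArg Prod.fst e0)).symm
      · exact toggled p2 hle' hS2 hT2 (fun i hi => (hother i hi).2) (congrArg Prod.snd e0)
  exact hd0 (by omega)

open QuadraticMap (polarBilin)

theorem two_mul_classes_le {p : ℕ} [Fact p.Prime] [CharP F p] (hp : p ≠ 2) {ι : Type} [Fintype ι] [DecidableEq ι]
    (Q : QuadraticForm F (ι → F)) (hQ : (polarBilin Q).Nondegenerate) {N : ℕ} (hN : Fintype.card ι = N) :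
    2 * Nat.card (ConjClasses ↥(Cfsg.isometryGroup F (⇑Q))) ≤
      Nat.card (SgnTupO F N) + Nat.card {t : SgnTupO F N // ¬ ∃ i, SignAt t.1.1 i} := by
  have h2 : (2 : F) ≠ 0 := fun h => hp ((Nat.prime_dvd_prime_iff_eq (Fact.out : p.Prime) Nat.prime_two).1
    ((CharP.cast_eq_zero_iff F p 2).1 (by exact_mod_cast h)))
  set G := ↥(Cfsg.isometryGroup F (⇑Q))
  let E := Quad.oEquiv Q
  have hA : ∀ u v, polarBilin Q u v = polarBilin Q v u := fun u v => QuadraticMap.polar_comm _ u v
  have hpres : ∀ g : G, ∀ u v, polarBilin Q ((E g).1 u) ((E g).1 v) = polarBilin Q u v := fun g u v =>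
    Quad.OQ.map_polar (E g) u v
  have hfr : Module.finrank F (ι → F) = N := by rw [Module.finrank_pi, hN]
  choose f hf using fun C : ConjClasses G => exists_tupData h2 hA hQ (E (Quotient.out C)).1 (hpres _) hfr
  have hinj : Function.Injective f := fun C C' h => by
    obtain ⟨φ, hφ, hφb⟩ := (hf C).exists_isometry hp h2 hA hQ (hpres _) hA hQ (hpres _) rfl (h ▸ hf C')
    have hφQ : φ ∈ Quad.OQ Q := Quad.mem_OQ.2 fun v => mul_left_cancel₀ h2 (by
      have e := hφb v v
      rwa [QuadraticMap.polarBilin_apply_apply, QuadraticMap.polarBilin_apply_apply, QuadraticMap.polar_self,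
        QuadraticMap.polar_self, two_nsmul, two_nsmul, ← two_mul, ← two_mul] at e)
    rw [← Quotient.out_eq C, ← Quotient.out_eq C']
    refine Quotient.sound (isConj_iff.2 ⟨E.symm ⟨φ, hφQ⟩, mul_inv_eq_iff_eq_mul.2 (E.injective ?_)⟩)
    rw [map_mul, map_mul, MulEquiv.apply_symm_apply]
    exact Subtype.ext (LinearEquiv.ext hφ)
  have hpair : Nat.card (ConjClasses G) + Nat.card {C : ConjClasses G // ∃ i, SignAt (f C).1.1 i} ≤
      Nat.card (SgnTupO F N) := by
    rw [← Nat.card_sum]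
    refine Nat.card_le_card_of_injective (Sum.elim f fun C => flipSign (f C.1)) ?_
    rintro (C | C) (C' | C') h
    · exact congrArg Sum.inl (hinj h)
    · have h' : f C = flipSign (f C'.1) := h
      exact ((hf C'.1).not_flip hp h2 hA hQ (hpres _) (hpres _) C'.2 (h' ▸ hf C)).elim
    · have h' : flipSign (f C.1) = f C' := h
      exact ((hf C.1).not_flip hp h2 hA hQ (hpres _) (hpres _) C.2 (h'.symm ▸ hf C')).elim
    · refine congrArg Sum.inr (Subtype.ext (hinj ?_))
      have h' := congrArg flipSign (h : flipSign (f C.1) = flipSign (f C'.1))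
      simpa only [Sum.elim_inr, flipSign_flipSign] using h'
  have hrest : Nat.card {C : ConjClasses G // ¬ ∃ i, SignAt (f C).1.1 i} ≤
      Nat.card {t : SgnTupO F N // ¬ ∃ i, SignAt t.1.1 i} :=
    Nat.card_le_card_of_injective (fun C => ⟨f C.1, C.2⟩) fun C C' h =>
      Subtype.ext (hinj (congrArg Subtype.val h :))
  have hsplit := Nat.card_congr (Equiv.sumCompl fun C : ConjClasses G => ∃ i, SignAt (f C).1.1 i)
  rw [Nat.card_sum] at hsplit
  simp only [G] at *
  omega

end CfsgLib.ClassNumber
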