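import Cfsg.Agent.Lib.ClassCount.Orthogonal.Disc
import Cfsg.Agent.Lib.Classical.Quad.Matrix
import Cfsg.Agent.Lib.Classical.Quad.StandardForms

/-!
# Lower bound for the class numbers of `O±(2n, q)`, `q` odd

For a monic `f` of degree `n` there is an isometry `a` of a symmetric form in dimension `2n` with
`charpoly (a + a⁻¹) = f²`; the square class of the form is that of `(-1) ^ n f(2) f(-2)` unless this vanishes,
when both classes occur.
-/

set_option autoImplicit false

open Polynomial Matrix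
open scoped _root_.Classical
open CfsgLib.Classical

namespace CfsgLib.ClassNumber

universe u

variable {F : Type u} [Field F]

theorem exists_symm_intertwiner {f : F[X]} (hf : f.Monic) :
    ∃ H Y : Matrix (Fin f.natDegree) (Fin f.natDegree) F,
      Hᵀ = H ∧ H.det ≠ 0 ∧ Yᵀ * H = H * Y ∧ Y.charpoly = f := by
  rcases Nat.eq_zero_or_pos f.natDegree with hn | hn
  · refine ⟨1, 1, transpose_one, by simp, by simp, ?_⟩
    have : IsEmpty (Fin f.natDegree) := by rw [hn]; infer_instance
    rw [charpoly, det_isEmpty, hf.natDegree_eq_zero.1 hn]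
  set b : Module.Basis (Fin f.natDegree) F (AdjoinRoot f) := (AdjoinRoot.powerBasis' hf).basis
  set ℓ : AdjoinRoot f →ₗ[F] F := (Polynomial.lcoeff F (f.natDegree - 1)).comp (AdjoinRoot.modByMonicHom hf)
  set H : Matrix (Fin f.natDegree) (Fin f.natDegree) F := Matrix.of fun i j => ℓ (b i * b j)
  set Y := Algebra.leftMulMatrix b (AdjoinRoot.root f)
  have hdot : ∀ x y, x ⬝ᵥ H *ᵥ y = ℓ (b.equivFun.symm x * b.equivFun.symm y) := fun x y => by
    simp only [dotProduct, mulVec, H, Matrix.of_apply, Module.Basis.equivFun_symm_apply, Finset.sum_mul,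
      Finset.mul_sum, map_sum]
    rw [Finset.sum_comm]
    refine Finset.sum_congr rfl fun i _ => Finset.sum_congr rfl fun j _ => ?_
    rw [smul_mul_smul_comm, map_smul, smul_eq_mul]
    ring
  refine ⟨H, Y, Matrix.ext fun i j => by simp [H, mul_comm], fun h0 => ?_, ?_, ?_⟩
  · obtain ⟨v, hv0, hv⟩ := Matrix.exists_mulVec_eq_zero_iff.2 h0
    set w := b.equivFun.symm v with hw
    have hw0 : w ≠ 0 := fun h => hv0 (b.equivFun.symm.injective (h.trans (map_zero _).symm))
    have hz : ∀ y, ℓ (y * w) = 0 := fun y => by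
      have := hdot (b.equivFun y) v
      rw [hv, dotProduct_zero, LinearEquiv.symm_apply_apply] at this
      exact this.symm
    obtain ⟨g, hg⟩ := AdjoinRoot.mk_surjective w
    have hr0 : g %ₘ f ≠ 0 := fun h => hw0 (by
      rw [← hg, AdjoinRoot.mk_eq_zero]
      exact (Polynomial.modByMonic_eq_zero_iff_dvd hf).1 h)
    have hd : (g %ₘ f).natDegree < f.natDegree := natDegree_modByMonic_lt g hf fun h => by simp [h] at hn
    have := hz (AdjoinRoot.mk f (X ^ (f.natDegree - 1 - (g %ₘ f).natDegree)))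
    have e : AdjoinRoot.mk f g = AdjoinRoot.mk f (g %ₘ f) := by
      rw [AdjoinRoot.mk_eq_mk, modByMonic_eq_sub_mul_div g, sub_sub_cancel]
      exact dvd_mul_right _ _
    rw [← hg, e, ← map_mul] at this
    simp only [ℓ, LinearMap.comp_apply, AdjoinRoot.modByMonicHom_mk, lcoeff_apply] at this
    rw [(modByMonic_eq_self_iff hf).2 (degree_lt_degree (by
      refine lt_of_le_of_lt natDegree_mul_le ?_
      rw [natDegree_X_pow]; omega)), show f.natDegree - 1 = (g %ₘ f).natDegree +
        (f.natDegree - 1 - (g %ₘ f).natDegree) by omega] at this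
    nth_rewrite 1 [Nat.add_sub_cancel_left] at this
    rw [coeff_X_pow_mul] at this
    exact hr0 (leadingCoeff_eq_zero.1 this)
  · refine gram_ext fun x y => ?_
    rw [← mulVec_mulVec, ← mulVec_mulVec, dotProduct_mulVec, vecMul_transpose, hdot, hdot]
    have hY : ∀ z, b.equivFun.symm (Y *ᵥ z) = AdjoinRoot.root f * b.equivFun.symm z := fun z => by
      apply b.equivFun.injective
      rw [LinearEquiv.apply_symm_apply]
      conv_lhs => rw [← b.equivFun.apply_symm_apply z]
      exact Algebra.leftMulMatrix_mulVec_repr b _ _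
    rw [hY, hY]
    congr 1
    ring
  · refine (charpoly_leftMulMatrix (AdjoinRoot.powerBasis' hf)).trans ?_
    rw [AdjoinRoot.powerBasis'_gen, AdjoinRoot.minpoly_root hf.ne_zero, hf.leadingCoeff, inv_one, C_1, mul_one]

variable [Fintype F]

/-- An isometry realizing `f` in the square class `ε`. -/
def RealizesO (f : F[X]) (ε : ℤ) : Prop :=
  ∃ (ι : Type) (_ : Fintype ι) (_ : DecidableEq ι) (B a a' : Matrix ι ι F),
    Fintype.card ι = 2 * f.natDegree ∧ Bᵀ = B ∧ quadraticChar F B.det = ε ∧ a * a' = 1 ∧ aᵀ * B * a = B ∧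
      (a + a').charpoly = f * f

theorem realizesO_regular {f : F[X]} (hf : f.Monic)
    (h : f.eval 2 * f.eval (-2) ≠ 0) :
    RealizesO f (quadraticChar F ((-1) ^ f.natDegree * (f.eval 2 * f.eval (-2)))) := by
  obtain ⟨H, Y, hH, hH0, hYH, hY⟩ := exists_symm_intertwiner hf
  have hYH' : ∀ Z : Matrix (Fin f.natDegree) (Fin f.natDegree) F, Yᵀ * (H * Z) = H * (Y * Z) := fun Z => by
    rw [← mul_assoc, hYH, mul_assoc]
  refine ⟨Fin f.natDegree ⊕ Fin f.natDegree, inferInstance, inferInstance,
    fromBlocks (2 • H) (H * Y) (H * Y) (2 • H), fromBlocks 0 (-1) 1 Y, fromBlocks Y 1 (-1) 0,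
    by rw [Fintype.card_sum, Fintype.card_fin, two_mul], ?_, ?_, ?_, ?_, ?_⟩
  · rw [fromBlocks_transpose, transpose_smul, hH, transpose_mul, hH, hYH]
  · have e : fromBlocks (2 • H) (H * Y) (H * Y) (2 • H) =
        fromBlocks H 0 0 H * fromBlocks (2 • (1 : Matrix (Fin f.natDegree) (Fin f.natDegree) F)) Y Y (2 • 1) := by
      rw [fromBlocks_multiply]
      simp only [Matrix.mul_smul, mul_one, zero_mul, add_zero, zero_add]
    have hdet : (fromBlocks (2 • (1 : Matrix (Fin f.natDegree) (Fin f.natDegree) F)) Y Y (2 • 1)).det =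
        (-1) ^ f.natDegree * (f.eval 2 * f.eval (-2)) := by
      have hsplit : fromBlocks (1 : Matrix (Fin f.natDegree) (Fin f.natDegree) F) 0 1 1 *
          fromBlocks (2 • 1) Y Y (2 • 1) * fromBlocks 1 0 (-1) 1 = fromBlocks (2 • 1 - Y) Y 0 (2 • 1 + Y) := by
        rw [fromBlocks_multiply, fromBlocks_multiply]
        congr 1 <;> simp <;> abel
      have e1 := congrArg det hsplit
      rw [det_mul, det_mul, det_fromBlocks_zero₁₂, det_fromBlocks_zero₁₂, det_fromBlocks_zero₂₁, det_one, one_mul,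
        one_mul, mul_one] at e1
      rw [e1]
      have hev : ∀ c : F, (c • (1 : Matrix (Fin f.natDegree) (Fin f.natDegree) F) - Y).det = f.eval c := fun c => by
        refine Eq.trans ?_ (congrArg (Polynomial.eval c) hY)
        rw [Matrix.eval_charpoly, smul_one_eq_diagonal]
        rfl
      have h2s : (2 • (1 : Matrix (Fin f.natDegree) (Fin f.natDegree) F)) = (2 : F) • 1 := by
        rw [two_smul, two_smul]
      rw [h2s, hev, show (2 : F) • (1 : Matrix (Fin f.natDegree) (Fin f.natDegree) F) + Y =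
        -((-2 : F) • 1 - Y) by rw [neg_sub, neg_smul, sub_neg_eq_add, add_comm], det_neg, hev, Fintype.card_fin]
      ring
    rw [e, det_mul, det_fromBlocks_zero₁₂, hdet, map_mul (quadraticChar F) (H.det * H.det), ← pow_two,
      quadraticChar_sq_one' hH0, one_mul]
  · rw [fromBlocks_multiply, ← fromBlocks_one]; simp
  · rw [fromBlocks_transpose, transpose_zero, transpose_one, transpose_neg, transpose_one, fromBlocks_multiply,
      fromBlocks_multiply]
    congr 1 <;> simp [hYH, hYH', two_smul, mul_add, add_mul, mul_assoc]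
  · rw [fromBlocks_add]
    simp [charpoly_fromBlocks_zero₁₂, hY]

theorem exists_nonsquare_char (h2 : (2 : F) ≠ 0) {ε : ℤ} (hε : ε = 1 ∨ ε = -1) :
    ∃ ν : F, quadraticChar F ν = ε := by
  rcases hε with rfl | rfl
  · exact ⟨1, map_one _⟩
  · exact quadraticChar_exists_neg_one (fun h => h2 (by
      have := ringChar.Nat.cast_ringChar (R := F)
      rw [h] at this
      exact_mod_cast this))

/-- Splitting off a root `2c`, `c = ±1`, gives both square classes. -/
theorem realizesO_step (h2 : (2 : F) ≠ 0) {h : F[X]} (hh : h.Monic) {c : F} (hc : c * c = 1) {ε ε' : ℤ}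
    (hε : ε = 1 ∨ ε = -1) (hε' : ε' = 1 ∨ ε' = -1) (hr : RealizesO h ε') : RealizesO ((X - C (2 * c)) * h) ε := by
  obtain ⟨ν, hν⟩ := exists_nonsquare_char h2 (ε := ε * ε') (by rcases hε with rfl | rfl <;> rcases hε' with rfl | rfl <;> simp)
  obtain ⟨ι, _, _, B, a, a', hcard, hB, hdet, haa, hpres, hchar⟩ := hr
  refine ⟨ι ⊕ Fin 2, inferInstance, inferInstance, fromBlocks B 0 0 (diagonal ![1, ν]),
    fromBlocks a 0 0 (diagonal fun _ => c), fromBlocks a' 0 0 (diagonal fun _ => c), ?_, ?_, ?_, ?_, ?_, ?_⟩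
  · rw [Fintype.card_sum, hcard, (monic_X_sub_C _).natDegree_mul hh, natDegree_X_sub_C, Fintype.card_fin]
    ring
  · rw [fromBlocks_transpose, hB, diagonal_transpose, transpose_zero, transpose_zero]
  · rw [det_fromBlocks_zero₁₂, map_mul, hdet, det_diagonal, Fin.prod_univ_two]
    simp only [Matrix.cons_val_zero, Matrix.cons_val_one, one_mul, hν]
    rcases hε' with rfl | rfl <;> simp
  · rw [fromBlocks_multiply, ← fromBlocks_one]
    simp [haa, hc]
  · rw [fromBlocks_transpose, fromBlocks_multiply, fromBlocks_multiply]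
    simp [hpres, diagonal_transpose, diagonal_mul_diagonal, mul_right_comm c, hc]
  · rw [fromBlocks_add, diagonal_add]
    simp only [add_zero, charpoly_fromBlocks_zero₁₂, hchar, charpoly_diagonal, Finset.prod_const, Finset.card_univ,
      Fintype.card_fin, ← two_mul]
    ring

theorem realizesO_exists (h2 : (2 : F) ≠ 0) : ∀ (n : ℕ) (f : F[X]), f.Monic → f.natDegree = n →
    (∃ ε, (ε = 1 ∨ ε = -1) ∧ RealizesO f ε) ∧
      ∀ ε : ℤ, (ε = 1 ∨ ε = -1) → f.eval 2 * f.eval (-2) = 0 → RealizesO f ε := by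
  intro n
  induction n using Nat.strong_induction_on with
  | _ n ih =>
    intro f hf hn
    have key : ∀ c : F, c * c = 1 → f.eval (2 * c) = 0 → ∀ ε : ℤ, (ε = 1 ∨ ε = -1) → RealizesO f ε := by
      intro c hc h0 ε hε
      obtain ⟨h, rfl⟩ := dvd_iff_isRoot.2 h0
      have hh : h.Monic := (monic_X_sub_C _).of_mul_monic_left hf
      rw [(monic_X_sub_C _).natDegree_mul hh, natDegree_X_sub_C] at hn
      obtain ⟨ε', hε', hr⟩ := (ih h.natDegree (by omega) h hh rfl).1
      exact realizesO_step h2 hh hc hε hε' hr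
    have key' : f.eval 2 * f.eval (-2) = 0 → ∀ ε : ℤ, (ε = 1 ∨ ε = -1) → RealizesO f ε := fun h0 => by
      rcases mul_eq_zero.1 h0 with h | h
      · exact key 1 (one_mul 1) (by rw [mul_one]; exact h)
      · exact key (-1) (by ring) (by rw [mul_neg_one]; exact h)
    refine ⟨?_, fun ε hε h0 => key' h0 ε hε⟩
    by_cases h0 : f.eval 2 * f.eval (-2) = 0
    · exact ⟨1, Or.inl rfl, key' h0 1 (Or.inl rfl)⟩
    · exact ⟨_, quadraticChar_dichotomy (mul_ne_zero (pow_ne_zero _ (neg_ne_zero.2 one_ne_zero)) h0),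
        realizesO_regular hf h0⟩

/-- The polynomials realized in the class `ε`. -/
abbrev RealSet (F : Type u) [Field F] [Fintype F] (n : ℕ) (ε : ℤ) : Type u :=
  {f : F[X] // (f.Monic ∧ f.natDegree = n) ∧ (f.eval 2 * f.eval (-2) = 0 ∨
    quadraticChar F ((-1) ^ n * (f.eval 2 * f.eval (-2))) = ε)}

theorem finite_realSet (n : ℕ) (ε : ℤ) : Finite (RealSet F n ε) :=
  Finite.of_injective (fun f (i : Fin (n + 1)) => f.1.coeff i) fun f g h => Subtype.ext (Polynomial.ext fun j => by
    rcases Nat.lt_or_ge n j with hj | hj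
    · rw [coeff_eq_zero_of_natDegree_lt (by rw [f.2.1.2]; omega), coeff_eq_zero_of_natDegree_lt (by rw [g.2.1.2]; omega)]
    · exact congrFun h ⟨j, by omega⟩)

theorem pow_le_two_mul_realSet (h2 : (2 : F) ≠ 0) {n : ℕ} (hn : 2 ≤ n) {ε : ℤ} (hε : ε = 1 ∨ ε = -1) :
    Fintype.card F ^ n ≤ 2 * Nat.card (RealSet F n ε) := by
  have h4 : (2 : F) + 2 ≠ 0 := by rw [← two_mul]; exact mul_ne_zero h2 h2
  obtain ⟨ν, hν⟩ := exists_nonsquare_char h2 (ε := -1) (Or.inr rfl)
  have hν0 : ν ≠ 0 := fun h => by rw [h, MulChar.map_zero] at hν; norm_num at hν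
  set twist : F[X] → F[X] := fun f => f + C ((ν - 1) * f.eval 2 * (2 + 2)⁻¹) * (X + C 2) with htw
  have hev : ∀ f, (twist f).eval 2 = ν * f.eval 2 ∧ (twist f).eval (-2) = f.eval (-2) := fun f => by
    refine ⟨?_, ?_⟩ <;> simp only [htw, eval_add, eval_mul, eval_C, eval_X]
    · rw [mul_assoc ((ν - 1) * _), inv_mul_cancel₀ h4]; ring
    · ring
  have htwm : ∀ f : F[X], f.Monic → f.natDegree = n → (twist f).Monic ∧ (twist f).natDegree = n := fun f hf hd => by
    have hlt : (C ((ν - 1) * f.eval 2 * (2 + 2)⁻¹) * (X + C 2)).degree < f.degree := by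
      refine lt_of_le_of_lt (degree_mul_le _ _) ?_
      rw [degree_X_add_C, degree_eq_natDegree hf.ne_zero, hd]
      refine lt_of_le_of_lt (add_le_add degree_C_le le_rfl) ?_
      rw [zero_add]
      exact_mod_cast hn
    exact ⟨hf.add_of_left hlt, (natDegree_eq_of_degree_eq (degree_add_eq_left_of_degree_lt hlt)).trans hd⟩
  have hinj : Function.Injective twist := fun f g h => by
    have e : f.eval 2 = g.eval 2 := mul_left_cancel₀ hν0 (by rw [← (hev f).1, h, (hev g).1])
    simp only [htw, e] at h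
    exact add_right_cancel h
  have := finite_realSet (F := F) n ε
  have := finite_realSet (F := F) n (-ε)
  have hswap : Nat.card (RealSet F n (-ε)) ≤ Nat.card (RealSet F n ε) := by
    refine Nat.card_le_card_of_injective (fun f => ⟨twist f.1, htwm _ f.2.1.1 f.2.1.2, ?_⟩)
      fun f g h => Subtype.ext (hinj (congrArg Subtype.val h :))
    rw [(hev _).1, (hev _).2, mul_assoc]
    rcases f.2.2 with h | h
    · exact Or.inl (by rw [h, mul_zero])
    · refine Or.inr ?_
      rw [mul_left_comm, map_mul, hν, h]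
      ring
  have hall : Fintype.card F ^ n ≤ Nat.card (RealSet F n ε) + Nat.card (RealSet F n (-ε)) := by
    have hcase : ∀ g : Polynomial.degreeLT F n, (X ^ n + g.1).Monic ∧ (X ^ n + g.1).natDegree = n := fun g => by
      have hg : g.1.degree < (X ^ n : F[X]).degree := by
        rw [degree_X_pow]; exact Polynomial.mem_degreeLT.1 g.2
      exact ⟨(monic_X_pow n).add_of_left hg,
        (natDegree_eq_of_degree_eq (degree_add_eq_left_of_degree_lt hg)).trans (natDegree_X_pow n)⟩
    rw [← Nat.card_sum]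
    let φ : Polynomial.degreeLT F n → RealSet F n ε ⊕ RealSet F n (-ε) := fun g =>
      if h : (X ^ n + g.1).eval 2 * (X ^ n + g.1).eval (-2) = 0 ∨
          quadraticChar F ((-1) ^ n * ((X ^ n + g.1).eval 2 * (X ^ n + g.1).eval (-2))) = ε
      then Sum.inl ⟨X ^ n + g.1, hcase g, h⟩
      else Sum.inr ⟨X ^ n + g.1, hcase g, Or.inr (by
        rw [not_or] at h
        rcases quadraticChar_dichotomy (mul_ne_zero (pow_ne_zero n (neg_ne_zero.2 (one_ne_zero (α := F)))) h.1) with
          e | e <;> rcases hε with rfl | rfl <;> first | exact absurd e h.2 | exact e)⟩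
    have hφ : Function.Injective φ := fun g g' h => by
      have e := congrArg (fun z : RealSet F n ε ⊕ RealSet F n (-ε) =>
        Sum.elim (fun x : RealSet F n ε => x.1) (fun x : RealSet F n (-ε) => x.1) z) h
      have hval : ∀ g, Sum.elim (fun x : RealSet F n ε => x.1) (fun x : RealSet F n (-ε) => x.1) (φ g) = X ^ n + g.1 :=
        fun g => by simp only [φ]; split_ifs <;> rfl
      simp only [hval] at e
      exact Subtype.ext (add_left_cancel e)
    refine le_trans (le_of_eq ?_) (Nat.card_le_card_of_injective φ hφ)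
    rw [Nat.card_congr (Polynomial.degreeLTEquiv F n).toEquiv, Nat.card_fun, Nat.card_fin, Nat.card_eq_fintype_card]
  omega

open QuadraticMap (polarBilin)
open CfsgLib.Classical.ClassTheory in
/-- The lower bound for one type. -/
theorem orth_classes_ge (h2 : (2 : F) ≠ 0) {n : ℕ} (hn : 2 ≤ n) {κ : Type} [Fintype κ] [DecidableEq κ]
    (Q : QuadraticForm F (κ → F)) (hκ : Fintype.card κ = 2 * n) (hQ : (polarBilin Q).Nondegenerate) :
    Fintype.card F ^ n ≤ 2 * Nat.card (ConjClasses ↥(Cfsg.isometryGroup F (⇑Q))) := by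
  set G := LinearMap.toMatrix₂' F (polarBilin Q)
  have hG : ∀ u v, polarBilin Q u v = u ⬝ᵥ G *ᵥ v := fun u v => by
    rw [← Matrix.toLinearMap₂'_apply', Matrix.toLinearMap₂'_toMatrix']
  have hGt : Gᵀ = G := gram_ext fun x y => by
    rw [mulVec_transpose, dotProduct_comm, ← dotProduct_mulVec, ← hG, ← hG]
    exact QuadraticMap.polar_comm _ _ _
  have hG0 : G.det ≠ 0 := fun h0 => by
    obtain ⟨y, hy0, hy⟩ := Matrix.exists_mulVec_eq_zero_iff.2 h0
    exact hy0 (hQ.2 y fun u => by rw [hG, hy, dotProduct_zero])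
  have hε := quadraticChar_dichotomy hG0
  refine (pow_le_two_mul_realSet h2 hn hε).trans (Nat.mul_le_mul_left 2 ?_)
  have hex : ∀ f : RealSet F n (quadraticChar F G.det), ∃ g : ↥(Cfsg.isometryGroup F (⇑Q)),
      (((g : GL κ F) : Matrix κ κ F) + (((g : GL κ F)⁻¹ : GL κ F) : Matrix κ κ F)).charpoly = f.1 * f.1 := fun f => by
    have hr : RealizesO f.1 (quadraticChar F G.det) := by
      by_cases h0 : f.1.eval 2 * f.1.eval (-2) = 0
      · exact (realizesO_exists h2 _ f.1 f.2.1.1 rfl).2 _ hε h0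
      · have := realizesO_regular f.2.1.1 h0
        rwa [f.2.1.2, f.2.2.resolve_left h0] at this
    obtain ⟨ι, _, _, B, a, a', hcard, hB, hdet, haa, hpres, hchar⟩ := hr
    let σ : κ ≃ ι := Fintype.equivOfCardEq (by rw [hκ, hcard, f.2.1.2])
    have hB' : (B.submatrix σ σ).det ≠ 0 := fun h0 => by
      rw [det_submatrix_equiv_self] at h0
      rw [h0, MulChar.map_zero] at hdet
      exact hG0 (quadraticChar_eq_zero_iff.1 hdet.symm)
    obtain ⟨P, hP0, hP⟩ := exists_congr_block h2 hB' hG0 (Or.inl ⟨by rw [transpose_submatrix, hB], hGt, by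
      rw [det_submatrix_equiv_self] at hB' ⊢
      rw [← quadraticChar_one_iff_isSquare (mul_ne_zero hB' hG0), map_mul, hdet]
      rcases hε with e | e <;> rw [e] <;> norm_num⟩)
    let Pu : GL κ F := Matrix.GeneralLinearGroup.mkOfDetNeZero P hP0
    let au : GL κ F := ⟨a.submatrix σ σ, a'.submatrix σ σ,
      by rw [submatrix_mul_equiv, haa, submatrix_one_equiv],
      by rw [submatrix_mul_equiv, mul_eq_one_comm.1 haa, submatrix_one_equiv]⟩
    have hau : (au : Matrix κ κ F)ᵀ * B.submatrix σ σ * (au : Matrix κ κ F) = B.submatrix σ σ := by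
      show (a.submatrix σ σ)ᵀ * B.submatrix σ σ * a.submatrix σ σ = _
      rw [transpose_submatrix, submatrix_mul_equiv, submatrix_mul_equiv, hpres]
    have hmem : Pu⁻¹ * au * Pu ∈ Cfsg.isometryGroup F (⇑Q) := by
      intro u _
      set M := ((Pu⁻¹ * au * Pu : GL κ F) : Matrix κ κ F)
      have hPu : (Pu : Matrix κ κ F) = P := rfl
      have hM : Mᵀ * G * M = G := by
        simp only [M, Units.val_mul, transpose_mul, ← hP, hPu]
        calc _ = Pᵀ * ((au : Matrix κ κ F)ᵀ * ((P * ((Pu⁻¹ : GL κ F) : Matrix κ κ F))ᵀ * B.submatrix σ σ *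
              (P * ((Pu⁻¹ : GL κ F) : Matrix κ κ F))) * (au : Matrix κ κ F)) * P := by
              simp only [transpose_mul, mul_assoc]
          _ = _ := by
              rw [show P * ((Pu⁻¹ : GL κ F) : Matrix κ κ F) = 1 from hPu ▸ Pu.mul_inv, transpose_one, one_mul, mul_one, hau]
      show Q (M *ᵥ u) = Q u
      refine mul_left_cancel₀ h2 ?_
      have e : polarBilin Q (M *ᵥ u) (M *ᵥ u) = polarBilin Q u u := by
        rw [hG, hG, dotProduct_mulVec, vecMul_mulVec, ← dotProduct_mulVec, mulVec_mulVec, hM]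
      rwa [QuadraticMap.polarBilin_apply_apply, QuadraticMap.polarBilin_apply_apply, QuadraticMap.polar_self,
        QuadraticMap.polar_self, two_nsmul, two_nsmul, ← two_mul, ← two_mul] at e
    refine ⟨⟨_, hmem⟩, ?_⟩
    show (((Pu⁻¹ * au * Pu : GL κ F) : Matrix κ κ F) + (((Pu⁻¹ * au * Pu)⁻¹ : GL κ F) : Matrix κ κ F)).charpoly = _
    rw [_root_.mul_inv_rev, _root_.mul_inv_rev, inv_inv, ← mul_assoc Pu⁻¹, Units.val_mul, Units.val_mul, Units.val_mul,
      Units.val_mul, ← add_mul, ← mul_add, Matrix.coe_units_inv, Matrix.charpoly_units_conj']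
    show (a.submatrix σ σ + a'.submatrix σ σ).charpoly = _
    rw [← hchar, ← Matrix.charpoly_reindex σ.symm (a + a'), Matrix.reindex_apply, Equiv.symm_symm]
    rfl
  choose g hg using hex
  have : Finite (ConjClasses ↥(Cfsg.isometryGroup F (⇑Q))) := inferInstance
  refine Nat.card_le_card_of_injective (fun f => ConjClasses.mk (g f)) fun f f' h => ?_
  obtain ⟨x, hx⟩ := isConj_iff.1 (ConjClasses.mk_eq_mk_iff_isConj.1 h)
  have e := hg f'
  rw [← hx] at e
  rw [show ((x * g f * x⁻¹ : ↥(Cfsg.isometryGroup F (⇑Q))) : GL κ F) =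
    (x : GL κ F) * (g f : GL κ F) * (x : GL κ F)⁻¹ from rfl] at e
  rw [_root_.mul_inv_rev, _root_.mul_inv_rev, inv_inv, ← mul_assoc ((x : GL κ F)), Units.val_mul, Units.val_mul,
    Units.val_mul, Units.val_mul, ← add_mul, ← mul_add] at e
  simp only [Matrix.coe_units_inv] at e
  rw [Matrix.charpoly_units_conj, ← Matrix.coe_units_inv, hg f] at e
  refine Subtype.ext ?_
  rcases mul_self_eq_mul_self_iff.1 e with h' | h'
  · exact h'
  · exfalso
    have := congrArg Polynomial.leadingCoeff h'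
    rw [leadingCoeff_neg, f.2.1.1.leadingCoeff, f'.2.1.1.leadingCoeff] at this
    exact h2 (by linear_combination this)

end CfsgLib.ClassNumber
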