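import Cfsg.Agent.Lib.ClassCount.Orthogonal.Signed

/-!
# The square class of the determinant of a bilinear form
-/

set_option autoImplicit false

namespace CfsgLib.ClassNumber

open LinearMap (BilinForm)
open Matrix
open scoped _root_.Classical
open CfsgLib.Classical CfsgLib.Classical.ClassTheory CfsgLib.Known

universe u

variable {F : Type u} [Field F] [Fintype F] {V : Type u} [AddCommGroup V] [Module F V] [FiniteDimensional F V]

/-- The quadratic character of a Gram determinant. -/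
noncomputable def discChar (B : BilinForm F V) : ℤ :=
  quadraticChar F (LinearMap.toMatrix₂' F
    (B.compl₁₂ (Module.finBasis F V).equivFun.symm.toLinearMap (Module.finBasis F V).equivFun.symm.toLinearMap)).det

omit [Fintype F] in
theorem gram_ext {ι : Type*} [Fintype ι] [DecidableEq ι] {X Y : Matrix ι ι F}
    (h : ∀ x y, x ⬝ᵥ X *ᵥ y = x ⬝ᵥ Y *ᵥ y) : X = Y := by
  apply Matrix.toBilin'.injective
  refine LinearMap.ext₂ fun x y => ?_
  rw [Matrix.toBilin'_apply', Matrix.toBilin'_apply']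
  exact h x y

theorem discChar_eq (B : BilinForm F V) {ι : Type*} [Fintype ι] [DecidableEq ι] (e : V ≃ₗ[F] (ι → F))
    (H : Matrix ι ι F) (hH : ∀ u v, B u v = e u ⬝ᵥ H *ᵥ e v) : discChar B = quadraticChar F H.det := by
  set b := (Module.finBasis F V).equivFun
  have hcard : Fintype.card ι = Module.finrank F V := by
    rw [e.finrank_eq, Module.finrank_pi]
  let σ : Fin (Module.finrank F V) ≃ ι := (Fintype.equivFinOfCardEq hcard).symm
  let T : (Fin (Module.finrank F V) → F) ≃ₗ[F] (Fin (Module.finrank F V) → F) :=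
    (b.symm.trans e).trans (LinearEquiv.funCongrLeft F F σ)
  let P := LinearMap.toMatrix' T.toLinearMap
  have hP : ∀ x, P *ᵥ x = fun i => e (b.symm x) (σ i) := fun x => LinearMap.toMatrix'_mulVec _ x
  have key : LinearMap.toMatrix₂' F (B.compl₁₂ b.symm.toLinearMap b.symm.toLinearMap) = Pᵀ * H.submatrix σ σ * P := by
    refine gram_ext fun x y => ?_
    rw [← Matrix.toLinearMap₂'_apply', Matrix.toLinearMap₂'_toMatrix', ← Matrix.mulVec_mulVec, ← Matrix.mulVec_mulVec,
      Matrix.dotProduct_mulVec x, Matrix.vecMul_transpose, hP, hP]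
    rw [LinearMap.compl₁₂_apply, LinearEquiv.coe_coe, hH, Matrix.submatrix_mulVec_equiv]
    simp only [dotProduct, Function.comp_def, Equiv.apply_symm_apply]
    exact (Equiv.sum_comp σ (fun i => e (b.symm x) i * (H *ᵥ e (b.symm y)) i)).symm
  have hPdet : P.det ≠ 0 := by
    intro h0
    obtain ⟨x, hx0, hx⟩ := Matrix.exists_mulVec_eq_zero_iff.2 h0
    refine hx0 (T.injective ?_)
    rw [map_zero]
    exact (LinearMap.toMatrix'_mulVec T.toLinearMap x).symm.trans hx
  rw [discChar, key, Matrix.det_mul, Matrix.det_mul, Matrix.det_transpose, Matrix.det_submatrix_equiv_self,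
    map_mul, map_mul, mul_comm, ← mul_assoc, ← pow_two, quadraticChar_sq_one hPdet, one_mul]

theorem discChar_congr {V' : Type u} [AddCommGroup V'] [Module F V'] [FiniteDimensional F V'] {B : BilinForm F V}
    {B' : BilinForm F V'} (f : V ≃ₗ[F] V') (hf : ∀ u v, B' (f u) (f v) = B u v) : discChar B = discChar B' := by
  set b := (Module.finBasis F V').equivFun
  refine discChar_eq B (f.trans b) (LinearMap.toMatrix₂' F (B'.compl₁₂ b.symm.toLinearMap b.symm.toLinearMap)) fun u v => ?_
  rw [← Matrix.toLinearMap₂'_apply', Matrix.toLinearMap₂'_toMatrix']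
  simp [b, hf]

theorem discChar_compl {B : BilinForm F V} {K R : Submodule F V} (h : IsCompl K R)
    (hp : ∀ k ∈ K, ∀ r ∈ R, B k r = 0 ∧ B r k = 0) :
    discChar B = discChar (B.restrict K) * discChar (B.restrict R) := by
  set eK := (Module.finBasis F K).equivFun
  set eR := (Module.finBasis F R).equivFun
  set A := LinearMap.toMatrix₂' F ((B.restrict K).compl₁₂ eK.symm.toLinearMap eK.symm.toLinearMap)
  set D := LinearMap.toMatrix₂' F ((B.restrict R).compl₁₂ eR.symm.toLinearMap eR.symm.toLinearMap)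
  let e : V ≃ₗ[F] (Fin (Module.finrank F K) ⊕ Fin (Module.finrank F R) → F) :=
    ((Submodule.prodEquivOfIsCompl K R h).symm.trans (eK.prodCongr eR)).trans
      (LinearEquiv.sumArrowLequivProdArrow _ _ F F).symm
  have hA : ∀ u v : K, B u v = eK u ⬝ᵥ A *ᵥ eK v := fun u v => by
    rw [← Matrix.toLinearMap₂'_apply', Matrix.toLinearMap₂'_toMatrix']
    simp
  have hD : ∀ u v : R, B u v = eR u ⬝ᵥ D *ᵥ eR v := fun u v => by
    rw [← Matrix.toLinearMap₂'_apply', Matrix.toLinearMap₂'_toMatrix']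
    simp
  rw [discChar_eq B e (Matrix.fromBlocks A 0 0 D) fun u v => ?_]
  · rw [Matrix.det_fromBlocks_zero₁₂, map_mul]
    rfl
  obtain ⟨⟨k, r⟩, rfl⟩ := (Submodule.prodEquivOfIsCompl K R h).surjective u
  obtain ⟨⟨k', r'⟩, rfl⟩ := (Submodule.prodEquivOfIsCompl K R h).surjective v
  have hval : ∀ k r, e (Submodule.prodEquivOfIsCompl K R h (k, r)) = Sum.elim (eK k) (eR r) := fun k r => by
    ext (i | i) <;> simp [e]
  rw [hval, hval, Matrix.fromBlocks_mulVec, sumElim_dotProduct_sumElim]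
  simp only [Sum.elim_comp_inl, Sum.elim_comp_inr, Matrix.zero_mulVec, add_zero, zero_add, ← hA, ← hD,
    Submodule.coe_prodEquivOfIsCompl', map_add, LinearMap.add_apply, (hp _ k.2 _ r'.2).1, (hp _ k'.2 _ r.2).2]

omit [Fintype F] [FiniteDimensional F V] in
theorem HasSignO.gram {B : BilinForm F V} {N : Module.End F V} {μ : Multiset ℕ} {S : Finset ℕ}
    (h : HasSignO B N μ S) : ∀ a ∈ μ, 0 < a := h.1

variable {V' : Type u} [AddCommGroup V'] [Module F V'] [FiniteDimensional F V']

/-- Toggling one sign changes the square class of the determinant. -/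
theorem HasSignO.discChar_toggle (h2 : (2 : F) ≠ 0) {B : BilinForm F V} {N : Module.End F V}
    {B' : BilinForm F V'} {N' : Module.End F V'} {μ : Multiset ℕ} {S S' : Finset ℕ} {j : ℕ}
    (h : HasSignO B N μ S) (h' : HasSignO B' N' μ S') (hj : j ∈ μ) (hjo : Odd j)
    (hiff : ∀ i ∈ μ, Odd i → ((i ∈ S ↔ i ∈ S') ↔ i ≠ j)) :
    discChar B' = -discChar B := by
  obtain ⟨hpos, -, -, -, e, c, -, heB, hca, hcu, hcs⟩ := h
  obtain ⟨-, -, -, -, e', c', -, he'B, hca', hcu', hcs'⟩ := h'
  have hd : ∀ k, 1 ≤ (blockFun μ) k := fun k => hpos _ (blockFun_mem _ k)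
  have hc0 := (isUnit_skMat (blockFun μ) hd c).1 hcu
  have hc1 := (isUnit_skMat (blockFun μ) hd c').1 hcu'
  have hmem : ∀ i : Fin (Finset.univ.sup (blockFun μ) + 1), Nonempty (JBlk (blockFun μ) i) → (i : ℕ) ∈ μ := fun i hne => by
    obtain ⟨⟨k, hk⟩⟩ := hne
    exact hk ▸ blockFun_mem μ k
  obtain ⟨k, hk⟩ := List.get_of_mem (Multiset.mem_toList.2 hj)
  have hk' : (blockFun μ) k = j := hk
  let j₀ : Fin (Finset.univ.sup (blockFun μ) + 1) := ⟨j, hk' ▸ d_lt_bound (blockFun μ) k⟩
  set χ := quadraticChar F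
  have hterm : ∀ i, χ ((topBlk (blockFun μ) c' i).det ^ (i : ℕ)) =
      (if i = j₀ then -1 else 1) * χ ((topBlk (blockFun μ) c i).det ^ (i : ℕ)) := fun i => by
    rcases Nat.even_or_odd (i : ℕ) with he | ho
    · obtain ⟨l, hl⟩ := he
      have hne : i ≠ j₀ := fun hh => Nat.not_even_iff_odd.2 hjo ⟨l, by rw [← hl, hh]⟩
      have hev : ∀ x : F, x ≠ 0 → χ (x ^ (i : ℕ)) = 1 := fun x hx => by
        rw [hl, ← two_mul, mul_comm, pow_mul]
        exact quadraticChar_sq_one' (pow_ne_zero _ hx)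
      rw [if_neg hne, one_mul, hev _ (hc1 i), hev _ (hc0 i)]
    rcases isEmpty_or_nonempty (JBlk (blockFun μ) i) with hemp | hne
    · have hne : i ≠ j₀ := by
        rintro rfl
        exact hemp.false ⟨k, hk'⟩
      rw [Matrix.det_isEmpty, Matrix.det_isEmpty, if_neg hne, one_mul]
    have him := hmem i hne
    have hch : ∀ x : F, x ≠ 0 → χ x = if IsSquare x then 1 else -1 := fun x hx => by
      split_ifs with hs
      · exact (quadraticChar_one_iff_isSquare hx).2 hs
      · exact quadraticChar_neg_one_iff_not_isSquare.2 hs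
    obtain ⟨l, hl⟩ := ho
    have hod : ∀ x : F, x ≠ 0 → χ (x ^ (i : ℕ)) = χ x := fun x hx => by
      rw [hl, pow_succ, pow_mul, map_mul, map_pow, quadraticChar_sq_one' hx, one_pow, one_mul]
    rw [hod _ (hc1 i), hod _ (hc0 i), hch _ (hc1 i), hch _ (hc0 i)]
    have h1 := hcs i ⟨l, hl⟩ him
    have h2' := hcs' i ⟨l, hl⟩ him
    have h3 := hiff i him ⟨l, hl⟩
    by_cases hij : i = j₀
    · rw [if_pos hij]
      have : ¬ ((i : ℕ) ∈ S ↔ (i : ℕ) ∈ S') := fun hh => (h3.1 hh) (congrArg Fin.val hij)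
      split_ifs <;> simp_all
    · rw [if_neg hij, one_mul]
      have : (i : ℕ) ∈ S ↔ (i : ℕ) ∈ S' := h3.2 fun hh => hij (Fin.ext hh)
      split_ifs <;> simp_all
  have hprod := congrArg χ (det_skMat_mul (blockFun μ) hd c c' hcu)
  rw [map_mul, map_mul, map_prod, map_prod, Finset.prod_congr rfl fun i _ => hterm i, Finset.prod_mul_distrib,
    Finset.prod_ite_eq' Finset.univ j₀ fun _ => (-1 : ℤ), if_pos (Finset.mem_univ _)] at hprod
  have hP : ∏ i, χ ((topBlk (blockFun μ) c i).det ^ (i : ℕ)) ≠ 0 :=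
    Finset.prod_ne_zero_iff.2 fun i _ => fun hh => pow_ne_zero _ (hc0 i) (quadraticChar_eq_zero_iff.1 hh)
  rw [discChar_eq B e _ heB, discChar_eq B' e' _ he'B]
  exact mul_right_cancel₀ hP (by linear_combination hprod)

end CfsgLib.ClassNumber
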