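import Cfsg.Agent.Lib.ClassCount.Orthogonal.Skew

/-!
# Signed partitions of skew nilpotent maps of a symmetric space in odd characteristic

Two such maps with the same block sizes and the same square classes of the top blocks of odd size
are isometrically equivalent, and toggling one sign changes the square class of the determinant.
-/

set_option autoImplicit false

namespace CfsgLib.ClassNumber

open LinearMap (BilinForm)
open Matrix
open CfsgLib.Classical CfsgLib.Classical.ClassTheory CfsgLib.Known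

universe u

variable {F : Type u} [Field F] {V : Type u} [AddCommGroup V] [Module F V]

/-- `μ` and `S` are the block sizes and the non-square classes of a skew nilpotent `N`. -/
def HasSignO (B : BilinForm F V) (N : Module.End F V) (μ : Multiset ℕ) (S : Finset ℕ) : Prop :=
  (∀ a ∈ μ, 0 < a) ∧ μ.sum = Module.finrank F V ∧ (∀ j, Even j → Even (μ.count j)) ∧
    (∀ j ∈ S, Odd j ∧ j ∈ μ) ∧
    ∃ (e : V ≃ₗ[F] (((k : Fin μ.toList.length) × Fin (blockFun μ k)) → F)) (c : JPar (blockFun μ) → F),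
      (∀ v, e (N v) = nilMat (blockFun μ) F *ᵥ e v) ∧
      (∀ u v, B u v = e u ⬝ᵥ skMat (blockFun μ) c *ᵥ e v) ∧
      (skMat (blockFun μ) c)ᵀ = skMat (blockFun μ) c ∧ IsUnit (skMat (blockFun μ) c) ∧
      ∀ i : Fin (Finset.univ.sup (blockFun μ) + 1), Odd (i : ℕ) → (i : ℕ) ∈ μ →
        ((i : ℕ) ∈ S ↔ ¬ IsSquare (topBlk (blockFun μ) c i).det)

variable [FiniteDimensional F V]

open scoped _root_.Classical in
theorem exists_hasSignO (h2 : (2 : F) ≠ 0) {B : BilinForm F V} (hA : ∀ u v, B u v = B v u) (hB : B.Nondegenerate)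
    (N : Module.End F V) (hN : IsNilpotent N) (hskew : ∀ u v, B (N u) v = -B u (N v)) :
    ∃ μ S, HasSignO B N μ S := by
  obtain ⟨μ, hpos, hsum, hprof⟩ := Jordan.exists_blocks (Module.finrank F V) N hN rfl
  set d := blockFun μ
  have hd : ∀ k, 1 ≤ d k := fun k => hpos _ (blockFun_mem _ k)
  let A' := Matrix.toLinAlgEquiv' (R := F) (n := (k : Fin μ.toList.length) × Fin (d k))
  have hrank : ∀ j, ((nilMat d F) ^ j).rank = Jordan.prof μ j := fun j => by
    rw [← jordanType_sub_one, rank_jordanType_pow, sizes_blockFun]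
  have hnil : IsNilpotent (nilMat d F) := by
    obtain ⟨j, hj⟩ := hN
    refine ⟨j, Matrix.toLin'.injective ?_⟩
    have h : ((nilMat d F) ^ j).rank = 0 := by
      rw [hrank, ← hprof, hj, LinearMap.range_zero, finrank_bot]
    rw [Matrix.rank, Submodule.finrank_eq_zero, LinearMap.range_eq_bot] at h
    exact h.trans (map_zero Matrix.toLin').symm
  obtain ⟨e, he⟩ := Jordan.exists_conj (Module.finrank F V) N (A' (nilMat d F)) hN (hnil.map A') rfl fun j => by
    rw [hprof, ← map_pow]
    exact (hrank j).symm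
  set H := LinearMap.toMatrix₂' F (B.compl₁₂ e.symm.toLinearMap e.symm.toLinearMap) with hH
  have hHap : ∀ u v, B u v = e u ⬝ᵥ H *ᵥ e v := fun u v => by
    rw [← Matrix.toLinearMap₂'_apply', hH, Matrix.toLinearMap₂'_toMatrix']
    simp
  have hext : ∀ X Y : Matrix ((k : Fin μ.toList.length) × Fin (d k)) ((k : Fin μ.toList.length) × Fin (d k)) F,
      (∀ x y, x ⬝ᵥ X *ᵥ y = x ⬝ᵥ Y *ᵥ y) → X = Y := fun X Y h => by
    apply Matrix.toBilin'.injective
    refine LinearMap.ext₂ fun x y => ?_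
    rw [Matrix.toBilin'_apply', Matrix.toBilin'_apply']
    exact h x y
  have hswap : Hᵀ = H := hext _ _ fun x y => by
    obtain ⟨a, rfl⟩ := e.surjective x
    obtain ⟨b, rfl⟩ := e.surjective y
    rw [← hHap, Matrix.mulVec_transpose, dotProduct_comm, ← Matrix.dotProduct_mulVec, ← hHap]
    exact (hA a b).symm
  obtain ⟨c, hc⟩ := exists_skMat d (H := H) (hext _ _ fun x y => by
    obtain ⟨a, rfl⟩ := e.surjective x
    obtain ⟨b, rfl⟩ := e.surjective y
    rw [Matrix.neg_mulVec, dotProduct_neg, ← Matrix.mulVec_mulVec, ← Matrix.mulVec_mulVec]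
    have h1 : nilMat d F *ᵥ e b = e (N b) := he b
    have h2 : e a ⬝ᵥ (nilMat d F)ᵀ *ᵥ (H *ᵥ e b) = e (N a) ⬝ᵥ H *ᵥ e b := by
      rw [Matrix.dotProduct_mulVec, Matrix.vecMul_transpose]
      exact congrArg (· ⬝ᵥ H *ᵥ e b) (he a)
    rw [h1, h2, ← hHap, ← hHap, hskew, neg_neg])
  have hu : IsUnit H := by
    rw [Matrix.isUnit_iff_isUnit_det, isUnit_iff_ne_zero]
    intro h0
    obtain ⟨y, hy0, hy⟩ := Matrix.exists_mulVec_eq_zero_iff.2 h0
    refine hy0 ?_
    obtain ⟨b, rfl⟩ := e.surjective y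
    rw [hB.2 b fun a => by rw [hHap, hy, dotProduct_zero], map_zero]
  have hpar : ∀ j : ℕ, Even j → Even (μ.count j) := by
    intro j hj
    by_cases hjm : j ∈ μ
    · obtain ⟨k, hk⟩ := List.get_of_mem (Multiset.mem_toList.2 hjm)
      have hk' : d k = j := hk
      set i : Fin (Finset.univ.sup d + 1) := ⟨j, hk' ▸ d_lt_bound d k⟩
      have ht := topBlk_transpose_symm d hd (show (skMat d c)ᵀ = skMat d c by rw [hc, hswap]) i
      rw [show (i : ℕ) = j from rfl, hj.neg_one_pow, neg_one_smul] at ht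
      have hev := even_card_of_skew' h2 ht ((isUnit_skMat d hd c).1 (hc ▸ hu) i)
      rw [Fintype.card_subtype, ← count_sizes d, sizes_blockFun] at hev
      exact hev
    · rw [Multiset.count_eq_zero_of_notMem hjm]; exact ⟨0, rfl⟩
  refine ⟨μ, μ.toFinset.filter fun j => Odd j ∧
      if h : j < Finset.univ.sup d + 1 then ¬ IsSquare (topBlk d c ⟨j, h⟩).det else False,
    hpos, hsum, hpar, fun j hj => ?_, e, c, fun v => (he v).symm, fun u v => by rw [hc]; exact hHap u v,
    by rw [hc, hswap], hc ▸ hu, fun i hi him => ?_⟩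
  · rw [Finset.mem_filter, Multiset.mem_toFinset] at hj
    exact ⟨hj.2.1, hj.1⟩
  · rw [Finset.mem_filter, Multiset.mem_toFinset, dif_pos i.2]
    exact ⟨fun h => h.2.2, fun h => ⟨him, hi, h⟩⟩

variable {V' : Type u} [AddCommGroup V'] [Module F V'] [FiniteDimensional F V'] [Finite F]

omit [FiniteDimensional F V] [FiniteDimensional F V'] in
/-- Equal data give an isometric intertwiner. -/
theorem HasSignO.exists_isometry {p : ℕ} [Fact p.Prime] [CharP F p] (hp : p ≠ 2) (h2 : (2 : F) ≠ 0)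
    {B : BilinForm F V} {N : Module.End F V} {B' : BilinForm F V'} {N' : Module.End F V'}
    {μ : Multiset ℕ} {S : Finset ℕ} (h : HasSignO B N μ S) (h' : HasSignO B' N' μ S) :
    ∃ f : V ≃ₗ[F] V', (∀ v, f (N v) = N' (f v)) ∧ ∀ u v, B' (f u) (f v) = B u v := by
  classical
  obtain ⟨hpos, -, -, -, e, c, he, heB, hca, hcu, hcs⟩ := h
  obtain ⟨-, -, -, -, e', c', he', he'B, hca', hcu', hcs'⟩ := h'
  have hd : ∀ k, 1 ≤ (blockFun μ) k := fun k => hpos _ (blockFun_mem _ k)
  let _ := Fintype.ofFinite F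
  obtain ⟨D, E, hDE, hED, hDN, hD⟩ := exists_congr_skMat_symm (blockFun μ) hd hp h2 c c' hca hca' hcu hcu' (by
    intro i hi
    have hc0 : (topBlk (blockFun μ) c i).det ≠ 0 := (isUnit_skMat (blockFun μ) hd c).1 hcu i
    have hc1 : (topBlk (blockFun μ) c' i).det ≠ 0 := (isUnit_skMat (blockFun μ) hd c').1 hcu' i
    by_cases hne : Nonempty (JBlk (blockFun μ) i)
    · have him : (i : ℕ) ∈ μ := by
        obtain ⟨⟨k, hk⟩⟩ := hne
        exact hk ▸ blockFun_mem μ k
      have hiff := not_iff_not.1 ((hcs i hi him).symm.trans (hcs' i hi him))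
      by_cases hsq : IsSquare (topBlk (blockFun μ) c i).det
      · exact hsq.mul (hiff.1 hsq)
      · rw [← quadraticChar_one_iff_isSquare (mul_ne_zero hc0 hc1), map_mul,
          quadraticChar_neg_one_iff_not_isSquare.2 hsq,
          quadraticChar_neg_one_iff_not_isSquare.2 fun h => hsq (hiff.2 h)]
        ring
    · have : IsEmpty (JBlk (blockFun μ) i) := not_nonempty_iff.1 hne
      rw [Matrix.det_isEmpty, Matrix.det_isEmpty]
      exact ⟨1, rfl⟩)
  let De : (((k : Fin μ.toList.length) × Fin ((blockFun μ) k)) → F) ≃ₗ[F] _ :=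
    LinearEquiv.ofLinearMap (Matrix.toLin' E) (Matrix.toLin' D)
      (by rw [← Matrix.toLin'_mul, hED, Matrix.toLin'_one]) (by rw [← Matrix.toLin'_mul, hDE, Matrix.toLin'_one])
  refine ⟨(e.trans De).trans e'.symm, fun v => ?_, fun u v => ?_⟩
  · apply e'.injective
    rw [he', LinearEquiv.trans_apply, LinearEquiv.trans_apply, LinearEquiv.trans_apply, LinearEquiv.trans_apply,
      e'.apply_symm_apply, e'.apply_symm_apply, he]
    show E *ᵥ (nilMat (blockFun μ) F *ᵥ e v) = nilMat (blockFun μ) F *ᵥ (E *ᵥ e v)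
    rw [Matrix.mulVec_mulVec, Matrix.mulVec_mulVec]
    congr 1
    calc E * nilMat (blockFun μ) F = E * (nilMat (blockFun μ) F * D) * E := by simp only [mul_assoc, hDE, mul_one]
      _ = E * (D * nilMat (blockFun μ) F) * E := by rw [hDN]
      _ = nilMat (blockFun μ) F * E := by rw [← mul_assoc E D, hED, one_mul]
  · rw [he'B, heB, LinearEquiv.trans_apply, LinearEquiv.trans_apply, LinearEquiv.trans_apply,
      LinearEquiv.trans_apply, e'.apply_symm_apply, e'.apply_symm_apply]
    show (E *ᵥ e u) ⬝ᵥ skMat (blockFun μ) c' *ᵥ (E *ᵥ e v) = _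
    rw [← hD, Matrix.dotProduct_mulVec, Matrix.vecMul_mulVec, ← Matrix.dotProduct_mulVec, Matrix.mulVec_mulVec]
    congr 2
    calc Eᵀ * (Dᵀ * skMat (blockFun μ) c * D) * E = (D * E)ᵀ * skMat (blockFun μ) c * (D * E) := by
          simp only [Matrix.transpose_mul, mul_assoc]
      _ = skMat (blockFun μ) c := by rw [hDE, Matrix.transpose_one, one_mul, mul_one]

end CfsgLib.ClassNumber
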