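import Cfsg.Agent.Lib.Classical.ClassTheory.SpUnipotentClasses

/-!
# Symmetric forms for which the nilpotent matrix of type `d` is skew

The blocks of top coefficients are symmetric for odd sizes and alternating for even sizes; in odd
characteristic their square classes determine the form up to the commutant, and they determine the
square class of the determinant.
-/

set_option autoImplicit false

namespace CfsgLib.ClassNumber

open Matrix
open CfsgLib.Classical CfsgLib.Classical.ClassTheory CfsgLib.Known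

variable {t : ℕ} (d : Fin t → ℕ) {K : Type*} [Field K]

theorem skMat_symm_swap {c : JPar d → K} (h : (skMat d c)ᵀ = skMat d c) (x : JPar d) :
    c (JPar.swap d x) = (-1) ^ (x.1.2 : ℕ) * c x := by
  obtain ⟨⟨⟨k, l⟩, u⟩, hk, hl⟩ := x
  simp only at hk hl
  have h1 := congrFun (congrFun h ⟨k, ⟨u, hk⟩⟩) ⟨l, ⟨0, Nat.lt_of_le_of_lt (Nat.zero_le _) hl⟩⟩
  simp only [Matrix.transpose_apply, skMat_apply, Nat.add_zero, Nat.zero_add, pow_zero, one_mul] at h1
  rw [← cExt_self d c ⟨((k, l), u), hk, hl⟩, ← cExt_self d c (JPar.swap d ⟨((k, l), u), hk, hl⟩)]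
  exact h1

theorem topBlk_transpose_symm (hd : ∀ k, 1 ≤ d k) {c : JPar d → K}
    (h : (skMat d c)ᵀ = skMat d c) (i : Fin (Finset.univ.sup d + 1)) :
    (topBlk d c i)ᵀ = (-(-1 : K) ^ (i : ℕ)) • topBlk d c i := by
  ext k l
  have hk := k.2
  have hl := l.2
  have := hd k.1
  simp only [Matrix.transpose_apply, topBlk, Matrix.of_apply, Matrix.smul_apply, smul_eq_mul, cExt]
  rw [dif_pos ⟨by omega, by omega⟩, dif_pos ⟨by omega, by omega⟩]
  refine (skMat_symm_swap d h ⟨((k.1, l.1), ⟨(i : ℕ) - 1, by omega⟩), by simp only; omega, by simp only; omega⟩).trans ?_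
  simp only
  congr 1
  conv_rhs => rw [show (i : ℕ) = (i : ℕ) - 1 + 1 by omega, pow_succ]
  ring

/-- The determinant of an element of the commutant. -/
theorem det_parMat (hd : ∀ k, 1 ≤ d k) (c : JPar d → K) :
    (parMat d c).det = ∏ i, (topBlk d c i).det ^ (i : ℕ) := by
  classical
  let b : ((k : Fin t) × Fin (d k)) → ℕᵒᵈ ×ₗ ℕ := fun a => toLex (OrderDual.toDual (a.2 : ℕ), d a.1)
  have htri : (parMat d c).BlockTriangular b := by
    rintro ⟨k, a⟩ ⟨l, x⟩ hlt
    rcases Prod.Lex.toLex_lt_toLex.1 hlt with h | ⟨h1, h2⟩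
    · have h' : (a : ℕ) < x := OrderDual.toDual_lt_toDual.1 h
      simp only [parMat, Matrix.of_apply]
      rw [if_neg (by omega)]
    · have h1' : (x : ℕ) = a := OrderDual.toDual.injective h1
      simp only at h2
      simp only [parMat, Matrix.of_apply]
      rw [if_pos (le_of_eq h1')]
      exact cExt_eq_zero d c fun h' => by omega
  have hblk : ∀ x : (k : Fin t) × Fin (d k),
      ((parMat d c).toSquareBlock b (b x)).det = (topBlk d c ⟨d x.1, d_lt_bound d x.1⟩).det := by
    intro x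
    let e : {y // b y = b x} ≃ JBlk d ⟨d x.1, d_lt_bound d x.1⟩ :=
      { toFun := fun y => ⟨y.1.1, congrArg (fun p => (ofLex p).2) y.2⟩
        invFun := fun k => ⟨⟨k.1, ⟨x.2, by have := k.2; simp only at this; omega⟩⟩,
          congrArg toLex (Prod.ext rfl k.2)⟩
        left_inv := fun y => by
          obtain ⟨⟨k, a⟩, hy⟩ := y
          have h1 : (a : ℕ) = x.2 := OrderDual.toDual.injective (congrArg (fun p => (ofLex p).1) hy)
          refine Subtype.ext ?_
          show (⟨k, ⟨x.2, _⟩⟩ : (k : Fin t) × Fin (d k)) = ⟨k, a⟩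
          congr 1
          exact Fin.ext h1.symm
        right_inv := fun k => rfl }
    rw [← Matrix.det_submatrix_equiv_self e.symm]
    congr 1
    ext k l
    simp only [Matrix.submatrix_apply, Matrix.toSquareBlock_def, Matrix.of_apply, parMat, topBlk]
    show (if (x.2 : ℕ) ≤ x.2 then cExt d c k.1 l.1 (d k.1 - 1 - ((x.2 : ℕ) - x.2)) else 0) = _
    rw [if_pos le_rfl]
    have hk : d k.1 = d x.1 := k.2
    congr 1
    omega
  rw [htri.det, ← Finset.prod_fiberwise_of_maps_to (g := fun p : ℕᵒᵈ ×ₗ ℕ => (ofLex p).2)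
    (t := Finset.range (Finset.univ.sup d + 1)) (fun p hp => by
      obtain ⟨x, -, rfl⟩ := Finset.mem_image.1 hp
      exact Finset.mem_range.2 (d_lt_bound d x.1)), ← Fin.prod_univ_eq_prod_range]
  refine Finset.prod_congr rfl fun i _ => ?_
  set A := (Finset.univ.image b).filter fun p => (ofLex p).2 = (i : ℕ) with hA
  have hconst : ∀ p ∈ A, ((parMat d c).toSquareBlock b p).det = (topBlk d c i).det := fun p hp => by
    obtain ⟨h1, h2⟩ := Finset.mem_filter.1 hp
    obtain ⟨x, -, rfl⟩ := Finset.mem_image.1 h1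
    rw [hblk, show (⟨d x.1, d_lt_bound d x.1⟩ : Fin (Finset.univ.sup d + 1)) = i from Fin.ext h2]
  rw [Finset.prod_eq_pow_card hconst]
  rcases isEmpty_or_nonempty (JBlk d i) with he | ⟨⟨k, hk⟩⟩
  · rw [Matrix.det_isEmpty, one_pow, one_pow]
  · congr 1
    have hAe : A = (Finset.range (i : ℕ)).image fun u => toLex (OrderDual.toDual u, (i : ℕ)) := by
      ext p
      rw [hA, Finset.mem_filter, Finset.mem_image, Finset.mem_image]
      constructor
      · rintro ⟨⟨x, -, rfl⟩, h2⟩
        refine ⟨x.2, Finset.mem_range.2 (lt_of_lt_of_eq x.2.2 h2), congrArg toLex (Prod.ext rfl h2.symm)⟩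
      · rintro ⟨u, hu, rfl⟩
        refine ⟨⟨⟨k, ⟨u, by rw [hk]; exact Finset.mem_range.1 hu⟩⟩, Finset.mem_univ _, ?_⟩, rfl⟩
        exact congrArg toLex (Prod.ext rfl hk)
    rw [hAe, Finset.card_image_of_injective _ (fun u v (h : toLex (OrderDual.toDual u, (i : ℕ)) = toLex (OrderDual.toDual v, (i : ℕ))) =>
        OrderDual.toDual.injective (Prod.ext_iff.1 (toLex.injective h)).1),
      Finset.card_range]

/-- The determinants of two forms differ by the top blocks. -/
theorem det_skMat_mul (hd : ∀ k, 1 ≤ d k) (c c' : JPar d → K) (hu : IsUnit (skMat d c)) :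
    (skMat d c').det * ∏ i, (topBlk d c i).det ^ (i : ℕ) =
      (skMat d c).det * ∏ i, (topBlk d c' i).det ^ (i : ℕ) := by
  obtain ⟨U, hU⟩ := hu
  set H := skMat d c with hH
  set Hi := ((U⁻¹ : (Matrix ((k : Fin t) × Fin (d k)) ((k : Fin t) × Fin (d k)) K)ˣ) :
    Matrix ((k : Fin t) × Fin (d k)) ((k : Fin t) × Fin (d k)) K) with hHi
  have h1 : H * Hi = 1 := by rw [← hU, hHi, Units.mul_inv]
  have h1' : Hi * H = 1 := by rw [← hU, hHi, Units.inv_mul]
  have hHX : H * (Hi * skMat d c') = skMat d c' := by rw [← mul_assoc, h1, one_mul]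
  have hXN : (Hi * skMat d c') * nilMat d K = nilMat d K * (Hi * skMat d c') := by
    have hcan : H * ((Hi * skMat d c') * nilMat d K) = H * (nilMat d K * (Hi * skMat d c')) := by
      rw [← mul_assoc, hHX, ← mul_assoc H (nilMat d K), skMat_commute, hH, skMat_commute, neg_mul, mul_assoc,
        ← hH, hHX]
    have := congrArg (fun M => Hi * M) hcan
    simpa only [← mul_assoc, h1', one_mul] using this
  obtain ⟨x, hx⟩ := exists_parMat d hXN
  have htop : ∀ i, topBlk d c i * topBlk d x i = topBlk d c' i := fun i => by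
    ext k l
    rw [← skMat_mul_corner d hd, hx, ← hH, hHX, skMat_corner]
  conv_lhs => rw [← hHX, Matrix.det_mul, ← hx, det_parMat d hd]
  simp only [← htop, Matrix.det_mul, mul_pow, Finset.prod_mul_distrib]
  ring

section Odd

variable [Finite K]

/-- In odd characteristic the top blocks determine the form up to the commutant. -/
theorem exists_congr_symm_of_topBlk_eq (hd : ∀ k, 1 ≤ d k) {p : ℕ} [Fact p.Prime] [CharP K p] (hp : p ≠ 2)
    (c c' : JPar d → K) (hc : (skMat d c)ᵀ = skMat d c) (hc' : (skMat d c')ᵀ = skMat d c')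
    (hu : IsUnit (skMat d c)) (htop : ∀ i, topBlk d c i = topBlk d c' i) :
    ∃ D, IsUnit D ∧ D * nilMat d K = nilMat d K * D ∧ Dᵀ * skMat d c * D = skMat d c' := by
  obtain ⟨U, hU⟩ := hu
  set H := skMat d c with hH
  set H' := skMat d c' with hH'
  set Hi := ((U⁻¹ : (Matrix ((k : Fin t) × Fin (d k)) ((k : Fin t) × Fin (d k)) K)ˣ) :
    Matrix ((k : Fin t) × Fin (d k)) ((k : Fin t) × Fin (d k)) K) with hHi
  have h1 : H * Hi = 1 := by rw [← hU, hHi, Units.mul_inv]
  have h1' : Hi * H = 1 := by rw [← hU, hHi, Units.inv_mul]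
  set X := Hi * H' with hX
  have hHX : H * X = H' := by rw [hX, ← mul_assoc, h1, one_mul]
  have hXN : X * nilMat d K = nilMat d K * X := by
    have hcan : H * (X * nilMat d K) = H * (nilMat d K * X) := by
      rw [← mul_assoc, hHX, ← mul_assoc H (nilMat d K) X, hH', skMat_commute, hH, skMat_commute, neg_mul, mul_assoc,
        ← hH, hHX]
    have := congrArg (fun M => Hi * M) hcan
    simpa only [← mul_assoc, h1', one_mul] using this
  obtain ⟨x, hx⟩ := exists_parMat d hXN
  obtain ⟨e, he⟩ := exists_parMat d (X := (1 : Matrix ((k : Fin t) × Fin (d k)) ((k : Fin t) × Fin (d k)) K))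
    (by rw [one_mul, mul_one])
  have hdet := (isUnit_skMat d hd c).1 ⟨U, hU⟩
  have hxe : ∀ i, topBlk d x i = topBlk d e i := by
    intro i
    have e1 : topBlk d c i * topBlk d x i = topBlk d c' i := by
      ext k l
      rw [← skMat_mul_corner d hd, hx, ← hH, hHX, hH', skMat_corner]
    have e2 : topBlk d c i * topBlk d e i = topBlk d c i := by
      ext k l
      rw [← skMat_mul_corner d hd, he, mul_one, skMat_corner]
    exact ((Matrix.isUnit_iff_isUnit_det _).2 (isUnit_iff_ne_zero.2 (hdet i))).mul_left_cancel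
      (e1.trans ((htop i).symm.trans e2.symm))
  have hnil : IsNilpotent (X - 1) := by
    rw [← hx, ← he, ← parMat_sub]
    exact isNilpotent_parMat d hd _ fun i => by rw [topBlk_sub, hxe, sub_self]
  obtain ⟨j, hj⟩ := hnil
  obtain ⟨k, hk⟩ : ∃ k, j ≤ p ^ k := ⟨j, (Nat.lt_pow_self (Fact.out : p.Prime).one_lt).le⟩
  have hXp : X ^ p ^ k = 1 := by
    rcases isEmpty_or_nonempty ((k : Fin t) × Fin (d k)) with he' | he'
    · exact Subsingleton.elim _ _
    have h0 : (X - 1) ^ p ^ k = 0 := pow_eq_zero_of_le hk hj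
    rwa [sub_pow_char_pow_of_commute _ _ (Commute.one_right X), one_pow, sub_eq_zero] at h0
  obtain ⟨s, hs⟩ : ∃ s, p ^ k + 1 = 2 * s := by
    have hodd : Odd (p ^ k) := ((Fact.out : p.Prime).odd_of_ne_two hp).pow
    obtain ⟨s, hs⟩ := hodd
    exact ⟨s + 1, by omega⟩
  have hXT : Xᵀ * H = H * X := by
    rw [hHX, hX, Matrix.transpose_mul, hc', mul_assoc]
    have e : Hiᵀ * H = 1 := by
      have e' : Hiᵀ * Hᵀ = 1 := by rw [← Matrix.transpose_mul, h1, Matrix.transpose_one]
      rwa [hc] at e'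
    rw [e, mul_one]
  have hpow : ∀ m : ℕ, (X ^ m)ᵀ * H = H * X ^ m := by
    intro m
    induction m with
    | zero => simp
    | succ m ih =>
      rw [pow_succ, Matrix.transpose_mul, mul_assoc, ih, ← mul_assoc, hXT, mul_assoc, ← pow_succ', pow_succ]
  refine ⟨X ^ s, ?_, (Commute.pow_left hXN s).eq, ?_⟩
  · refine IsUnit.pow s ?_
    have hX1 : IsNilpotent (X - 1) := ⟨j, hj⟩
    simpa using hX1.isUnit_add_one
  · rw [hpow, mul_assoc, ← pow_add, ← two_mul, ← hs, pow_succ, hXp, one_mul, hHX]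

end Odd

section Congr

variable {F : Type*} [Field F]

/-- Forms with congruent top blocks are congruent under the commutant. -/
theorem exists_congr_skMat_symm [Finite F] (hd : ∀ k, 1 ≤ d k) {p : ℕ} [Fact p.Prime] [CharP F p] (hp : p ≠ 2)
    (h2 : (2 : F) ≠ 0) (c c' : JPar d → F) (hc : (skMat d c)ᵀ = skMat d c) (hc' : (skMat d c')ᵀ = skMat d c')
    (hu : IsUnit (skMat d c)) (hu' : IsUnit (skMat d c'))
    (hsq : ∀ i : Fin (Finset.univ.sup d + 1), Odd (i : ℕ) →
      IsSquare ((topBlk d c i).det * (topBlk d c' i).det)) :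
    ∃ D E, D * E = 1 ∧ E * D = 1 ∧ D * nilMat d F = nilMat d F * D ∧ Dᵀ * skMat d c * D = skMat d c' := by
  have key : ∀ i, ∃ P : Matrix (JBlk d i) (JBlk d i) F, P.det ≠ 0 ∧ Pᵀ * topBlk d c i * P = topBlk d c' i := by
    intro i
    refine exists_congr_block h2 ((isUnit_skMat d hd c).1 hu i) ((isUnit_skMat d hd c').1 hu' i) ?_
    have e := topBlk_transpose_symm d hd hc i
    have e' := topBlk_transpose_symm d hd hc' i
    rcases Nat.even_or_odd (i : ℕ) with h | h
    · rw [h.neg_one_pow, neg_one_smul] at e e'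
      exact Or.inr ⟨e, e'⟩
    · rw [h.neg_one_pow, neg_neg, one_smul] at e e'
      exact Or.inl ⟨e, e', hsq i h⟩
  choose P hP0 hP using key
  set x := (parSplit d hd).symm (P, fun _ => 0) with hx
  have hxtop : ∀ i, topBlk d x i = P i := fun i => by
    have h := congrFun (congrArg Prod.fst ((parSplit d hd).apply_symm_apply (P, fun _ => (0 : F)))) i
    exact h
  have hXu : IsUnit (parMat d x) := (isUnit_parMat d hd x).2 fun i => by rw [hxtop]; exact hP0 i
  set X := parMat d x with hX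
  have hXN : X * nilMat d F = nilMat d F * X := parMat_commute d x
  obtain ⟨c₁, hc₁⟩ := exists_skMat d (H := Xᵀ * skMat d c * X) (by
    have hXT : Xᵀ * (nilMat d F)ᵀ = (nilMat d F)ᵀ * Xᵀ := by
      rw [← Matrix.transpose_mul, ← Matrix.transpose_mul, hXN]
    rw [mul_assoc _ X, hXN, ← mul_assoc, mul_assoc Xᵀ, skMat_commute, mul_neg, ← mul_assoc, hXT, neg_mul]
    simp only [mul_assoc])
  have htop : ∀ i, topBlk d c₁ i = topBlk d c' i := fun i => by
    rw [topBlk_congr d hd c c₁ x hc₁.symm, hxtop, hP]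
  have hc₁a : (skMat d c₁)ᵀ = skMat d c₁ := by
    rw [hc₁, Matrix.transpose_mul, Matrix.transpose_mul, Matrix.transpose_transpose, hc, mul_assoc]
  have hu₁ : IsUnit (skMat d c₁) := by
    rw [hc₁]
    refine (IsUnit.mul ?_ hu).mul hXu
    rw [Matrix.isUnit_iff_isUnit_det, Matrix.det_transpose]
    exact (Matrix.isUnit_iff_isUnit_det _).1 hXu
  obtain ⟨D, hDu, hDN, hD⟩ := exists_congr_symm_of_topBlk_eq d hd hp c₁ c' hc₁a hc' hu₁ htop
  refine ⟨X * D, ((hXu.mul hDu).unit⁻¹ : (Matrix _ _ F)ˣ), (hXu.mul hDu).mul_val_inv, (hXu.mul hDu).val_inv_mul, ?_, ?_⟩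
  · rw [mul_assoc, hDN, ← mul_assoc, hXN, mul_assoc]
  · rw [← hD, hc₁, Matrix.transpose_mul]
    simp only [mul_assoc]

end Congr

end CfsgLib.ClassNumber
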