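import Cfsg.Agent.Lib.ClassCount.Symplectic.Split
import Cfsg.Agent.Lib.ClassCount.Orthogonal.Disc

/-!
# Data determining an isometry of a symmetric space in odd characteristic

The generalized eigenspaces of `1` and `-1` carry signed partitions, the rest a linear class.
-/

set_option autoImplicit false

namespace CfsgLib.ClassNumber

open Polynomial
open LinearMap (BilinForm)
open CfsgLib.Classical CfsgLib.Classical.ClassTheory

universe u

variable {F : Type u} [Field F] {V : Type u} [AddCommGroup V] [Module F V] [FiniteDimensional F V]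
variable {V' : Type u} [AddCommGroup V'] [Module F V']

omit [FiniteDimensional F V] in
theorem perp_genO {B : BilinForm F V} (hA : ∀ u v, B u v = B v u) (a : V ≃ₗ[F] V) (ha : ∀ u v, B (a u) (a v) = B u v)
    {c : F} (hc : c * c = 1) :
    ∀ k ∈ genKer a c, ∀ r ∈ genRan a c, B k r = 0 ∧ B r k = 0 := by
  have key : ∀ j k u, (shiftEnd a c ^ j) k = 0 → B k ((shiftEnd a c ^ j) u) = 0 := by
    intro j
    induction j with
    | zero => intro k u hk; rw [show k = 0 from hk, map_zero, LinearMap.zero_apply]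
    | succ j ih =>
      intro k u hk
      rw [pow_succ', Module.End.mul_apply, shiftEnd_apply, map_sub, map_smul, smul_eq_mul]
      set w := (shiftEnd a c ^ j) u
      have h1 : B k (a w) = B (a.symm k) w := by
        conv_lhs => rw [← a.apply_symm_apply k, ha]
      have h2 : (shiftEnd a c ^ j) (shiftEnd a c (a.symm k)) = 0 := by
        rw [← Module.End.mul_apply, ← pow_succ]
        apply a.injective
        rw [← shiftEnd_pow_comm, a.apply_symm_apply, hk, map_zero]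
      have h3 := ih _ u h2
      rw [shiftEnd_apply, a.apply_symm_apply, map_sub, map_smul, LinearMap.sub_apply, LinearMap.smul_apply,
        smul_eq_mul] at h3
      rw [h1]
      linear_combination (-c) * h3 - B (a.symm k) w * hc
  rintro k hk _ ⟨u, rfl⟩
  have := key _ k u (LinearMap.mem_ker.1 hk)
  exact ⟨this, by rw [hA, this]⟩

theorem restrict_genO {B : BilinForm F V} (hA : ∀ u v, B u v = B v u) (hB : B.Nondegenerate) (a : V ≃ₗ[F] V)
    (ha : ∀ u v, B (a u) (a v) = B u v) {c : F} (hc : c * c = 1) :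
    ((∀ u v, B.restrict (genKer a c) u v = B.restrict (genKer a c) v u) ∧ (B.restrict (genKer a c)).Nondegenerate ∧
        ∀ u v, B.restrict (genKer a c) (onKer a c u) (onKer a c v) = B.restrict (genKer a c) u v) ∧
      ((∀ u v, B.restrict (genRan a c) u v = B.restrict (genRan a c) v u) ∧ (B.restrict (genRan a c)).Nondegenerate ∧
        ∀ u v, B.restrict (genRan a c) (onRan a c u) (onRan a c v) = B.restrict (genRan a c) u v) := by
  obtain ⟨n0, n1⟩ := nondegenerate_of_isCompl (isCompl_gen a c) hB (perp_genO hA a ha hc)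
  exact ⟨⟨fun u v => hA _ _, n0, fun u v => ha _ _⟩, ⟨fun u v => hA _ _, n1, fun u v => ha _ _⟩⟩

variable [FiniteDimensional F V']

theorem glue_genO [Finite F] {B : BilinForm F V} (hA : ∀ u v, B u v = B v u) (a : V ≃ₗ[F] V) (ha : ∀ u v, B (a u) (a v) = B u v)
    {B' : BilinForm F V'} (hA' : ∀ u v, B' u v = B' v u) (a' : V' ≃ₗ[F] V') (ha' : ∀ u v, B' (a' u) (a' v) = B' u v)
    {c : F} (hc : c * c = 1) (f0 : genKer a c ≃ₗ[F] genKer a' c) (f1 : genRan a c ≃ₗ[F] genRan a' c)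
    (h0 : ∀ v, f0 (onKer a c v) = onKer a' c (f0 v)) (h1 : ∀ v, f1 (onRan a c v) = onRan a' c (f1 v))
    (h0b : ∀ u v, B'.restrict (genKer a' c) (f0 u) (f0 v) = B.restrict (genKer a c) u v)
    (h1b : ∀ u v, B'.restrict (genRan a' c) (f1 u) (f1 v) = B.restrict (genRan a c) u v) :
    ∃ f : V ≃ₗ[F] V', (∀ v, f (a v) = a' (f v)) ∧ ∀ u v, B' (f u) (f v) = B u v := by
  obtain ⟨f, hfk, hfr, hfb⟩ := exists_glue (isCompl_gen a c) (isCompl_gen a' c) (perp_genO hA a ha hc)
    (perp_genO hA' a' ha' hc) f0 f1 h0b h1b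
  refine ⟨f, fun v => ?_, hfb⟩
  obtain ⟨k, r, hk, hr, rfl⟩ := Submodule.codisjoint_iff_exists_add_eq.1 (isCompl_gen a c).codisjoint v
  rw [map_add, map_add, map_add, map_add]
  congr 1
  · rw [← coe_onKer a c ⟨k, hk⟩, hfk, h0, coe_onKer, hfk ⟨k, hk⟩]
  · rw [← coe_onRan a c ⟨r, hr⟩, hfr, h1, coe_onRan, hfr ⟨r, hr⟩]

/-- The data of `a` with `a - c` nilpotent: a signed partition of its Cayley transform. -/
def PartDataO (B : BilinForm F V) (a : V ≃ₗ[F] V) (c : F) (μ : Multiset ℕ) (S : Finset ℕ) : Prop :=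
  ∃ N : Module.End F V, IsNilpotent N ∧ (∀ v, a (v - N v) = c • (v + N v)) ∧ HasSignO B N μ S

theorem exists_partDataO (h2 : (2 : F) ≠ 0) {B : BilinForm F V} (hA : ∀ u v, B u v = B v u) (hB : B.Nondegenerate)
    (a : V ≃ₗ[F] V) (ha : ∀ u v, B (a u) (a v) = B u v) {c : F} (hc : c * c = 1)
    (hnil : IsNilpotent (shiftEnd a c)) : ∃ μ S, PartDataO B a c μ S := by
  set U := shiftEnd a c
  let Pl : Module.End F V := (a : V →ₗ[F] V) + c • 1
  have h2c : (2 * c) • (1 : Module.End F V) + U = Pl := by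
    simp only [U, Pl, shiftEnd, mul_smul, two_smul]
    abel
  have hu2 : IsUnit ((2 * c) • (1 : Module.End F V)) := by
    rw [← Algebra.algebraMap_eq_smul_one]
    exact (IsUnit.mk0 _ (mul_ne_zero h2 fun h => by simp [h] at hc)).map _
  have hcomm : Commute U ((2 * c) • (1 : Module.End F V)) := (Commute.one_right U).smul_right _
  obtain ⟨W, hW⟩ := h2c ▸ hnil.isUnit_add_left_of_commute hu2 hcomm
  set N : Module.End F V := U * ((W⁻¹ : (Module.End F V)ˣ) : Module.End F V)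
  have hWv : ∀ v, Pl (((W⁻¹ : (Module.End F V)ˣ) : Module.End F V) v) = v := fun v => by
    rw [← hW, ← Module.End.mul_apply, Units.mul_inv, Module.End.one_apply]
  have hWU : Commute ((W⁻¹ : (Module.End F V)ˣ) : Module.End F V) U := by
    refine Commute.units_inv_left ?_
    rw [hW, ← h2c]
    exact hcomm.symm.add_left (Commute.refl U)
  have hN : IsNilpotent N := hWU.symm.isNilpotent_mul_right hnil
  have key : ∀ v, a (v - N v) = c • (v + N v) := fun v => by
    obtain ⟨w, rfl⟩ : ∃ w, Pl w = v := ⟨_, hWv v⟩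
    have hw : ((W⁻¹ : (Module.End F V)ˣ) : Module.End F V) (Pl w) = w := by
      rw [← hW, ← Module.End.mul_apply, Units.inv_mul, Module.End.one_apply]
    show a (Pl w - U _) = c • (Pl w + U _)
    rw [hw]
    show a ((a w + c • w) - (a w - c • w)) = c • ((a w + c • w) + (a w - c • w))
    rw [add_sub_sub_cancel, map_add, map_smul, add_add_sub_cancel, smul_add]
  obtain ⟨μ, S, h⟩ := exists_hasSignO h2 hA hB N hN fun u v => by
    obtain ⟨x, rfl⟩ : ∃ x, Pl x = u := ⟨_, hWv u⟩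
    obtain ⟨y, rfl⟩ : ∃ y, Pl y = v := ⟨_, hWv v⟩
    have hw : ∀ w, ((W⁻¹ : (Module.End F V)ˣ) : Module.End F V) (Pl w) = w := fun w => by
      rw [← hW, ← Module.End.mul_apply, Units.inv_mul, Module.End.one_apply]
    show B (U _) (Pl y) = -B (Pl x) (U _)
    rw [hw, hw]
    show B (a x - c • x) (a y + c • y) = -B (a x + c • x) (a y - c • y)
    simp only [map_add, map_sub, map_smul, LinearMap.add_apply, LinearMap.sub_apply, LinearMap.smul_apply,
      smul_eq_mul, ha]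
    linear_combination (-2 * B x y) * hc
  exact ⟨μ, S, N, hN, key, h⟩

omit [FiniteDimensional F V] [FiniteDimensional F V'] in
theorem PartDataO.exists_isometry [Finite F] {p : ℕ} [Fact p.Prime] [CharP F p] (hp : p ≠ 2) (h2 : (2 : F) ≠ 0)
    {B : BilinForm F V} {a : V ≃ₗ[F] V} {B' : BilinForm F V'} {a' : V' ≃ₗ[F] V'} {c : F} {μ : Multiset ℕ}
    {S : Finset ℕ} (h : PartDataO B a c μ S) (h' : PartDataO B' a' c μ S) :
    ∃ f : V ≃ₗ[F] V', (∀ v, f (a v) = a' (f v)) ∧ ∀ u v, B' (f u) (f v) = B u v := by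
  obtain ⟨N, hN, hkey, hs⟩ := h
  obtain ⟨N', -, hkey', hs'⟩ := h'
  obtain ⟨f, hf, hfb⟩ := hs.exists_isometry hp h2 hs'
  refine ⟨f, fun v => ?_, hfb⟩
  obtain ⟨w, rfl⟩ : ∃ w, w - N w = v := ((Module.End.isUnit_iff _).1 hN.isUnit_one_sub).2 v
  rw [hkey, map_smul, map_add, hf, map_sub, hf, hkey']

/-- The data of an isometry. -/
def HasDataO (B : BilinForm F V) (a : V ≃ₗ[F] V) (μ μ' : Multiset ℕ) (S S' : Finset ℕ) (Q : ℕ → F[X]) : Prop :=
  PartDataO (B.restrict (genKer a 1)) (onKer a 1) 1 μ S ∧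
    PartDataO ((B.restrict (genRan a 1)).restrict (genKer (onRan a 1) (-1))) (onKer (onRan a 1) (-1)) (-1) μ' S' ∧
    ∃ D : Decomp (onRan (onRan a 1) (-1)).toLinearMap, ∀ k, k ≠ 0 → D.part k = Q k

omit [FiniteDimensional F V] in
theorem HasSignO.finrank {B : BilinForm F V} {N : Module.End F V} {μ : Multiset ℕ} {S : Finset ℕ}
    (h : HasSignO B N μ S) : μ.sum = Module.finrank F V := h.2.1

theorem HasDataO.finrank_rest {B : BilinForm F V} {a : V ≃ₗ[F] V} {μ μ' : Multiset ℕ} {S S' : Finset ℕ}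
    {Q : ℕ → F[X]} (h : HasDataO B a μ μ' S S' Q) :
    μ.sum + μ'.sum + Module.finrank F (genRan (onRan a 1) (-1)) = Module.finrank F V := by
  obtain ⟨⟨_, -, -, h1⟩, ⟨_, -, -, h2⟩, -⟩ := h
  rw [h1.finrank, h2.finrank, add_assoc, Submodule.finrank_add_eq_of_isCompl (isCompl_gen _ _),
    Submodule.finrank_add_eq_of_isCompl (isCompl_gen _ _)]

theorem HasDataO.exists_isometry [Finite F] {p : ℕ} [Fact p.Prime] [CharP F p] (hp : p ≠ 2) (h2 : (2 : F) ≠ 0)
    {B : BilinForm F V} (hA : ∀ u v, B u v = B v u) (hB : B.Nondegenerate) {a : V ≃ₗ[F] V} (ha : ∀ u v, B (a u) (a v) = B u v)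
    {B' : BilinForm F V'} (hA' : ∀ u v, B' u v = B' v u) (hB' : B'.Nondegenerate) {a' : V' ≃ₗ[F] V'}
    (ha' : ∀ u v, B' (a' u) (a' v) = B' u v) (hfr : Module.finrank F V = Module.finrank F V')
    {μ μ' : Multiset ℕ} {S S' : Finset ℕ} {Q : ℕ → F[X]}
    (h : HasDataO B a μ μ' S S' Q) (h' : HasDataO B' a' μ μ' S S' Q) :
    ∃ f : V ≃ₗ[F] V', (∀ v, f (a v) = a' (f v)) ∧ ∀ u v, B' (f u) (f v) = B u v := by
  have e1 := h.finrank_rest
  have e2 := h'.finrank_rest
  obtain ⟨hp1, hp2, D, hD⟩ := h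
  obtain ⟨hp1', hp2', D', hD'⟩ := h'
  have hm : (-1 : F) * -1 = 1 := by ring
  obtain ⟨-, hA1, hB1, ha1⟩ := restrict_genO hA hB a ha (one_mul 1)
  obtain ⟨-, hA1', hB1', ha1'⟩ := restrict_genO hA' hB' a' ha' (one_mul 1)
  obtain ⟨-, hA2, hB2, ha2⟩ := restrict_genO hA1 hB1 (onRan a 1) ha1 hm
  obtain ⟨-, hA2', hB2', ha2'⟩ := restrict_genO hA1' hB1' (onRan a' 1) ha1' hm
  obtain ⟨f0, hf0, hf0b⟩ := hp1.exists_isometry hp h2 hp1'
  obtain ⟨f2, hf2, hf2b⟩ := hp2.exists_isometry hp h2 hp2'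
  obtain ⟨L, hL⟩ := exists_equiv_of_part_eq D D' (by omega) fun k hk => (hD k hk).trans (hD' k hk).symm
  obtain ⟨f3, hf3, hf3b⟩ := exists_isometric_of_fpf 1 hB2
    (fun u v => by rw [one_mul, hA2]) hB2'
    (fun u v => by rw [one_mul, hA2']) (onRan (onRan a 1) (-1)) ha2
    (onRan (onRan a' 1) (-1)) ha2' L hL fun v hv => by
      set b := onRan (onRan a 1) (-1)
      have hx : b v + v = 0 := by
        refine Subtype.ext (shiftEnd_onRan_injective a 1 ((b v + v : _) : genRan a 1) ?_)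
        rw [one_smul]
        show ((b (b v + v) : genRan (onRan a 1) (-1)) : genRan a 1).1 = _
        rw [map_add, hv, add_comm]
      refine shiftEnd_onRan_injective (onRan a 1) (-1) v ?_
      rw [neg_one_smul]
      exact congrArg Subtype.val (eq_neg_of_add_eq_zero_left hx)
  obtain ⟨f1, hf1, hf1b⟩ := glue_genO hA1 (onRan a 1) ha1 hA1' (onRan a' 1) ha1' hm f2 f3 hf2 hf3 hf2b hf3b
  exact glue_genO hA a ha hA' a' ha' (one_mul 1) f0 f1 hf0 hf1 hf0b hf1b

variable [Fintype F]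

theorem exists_hasDataO (h2 : (2 : F) ≠ 0) {B : BilinForm F V} (hA : ∀ u v, B u v = B v u) (hB : B.Nondegenerate)
    (a : V ≃ₗ[F] V) (ha : ∀ u v, B (a u) (a v) = B u v) :
    ∃ μ μ' S S' Q, HasDataO B a μ μ' S S' Q ∧
      (∀ k, k ≠ 0 → (Q k).Monic ∧ (Q k).coeff 0 ≠ 0 ∧ recipPoly (Q k) = Q k ∧ (Q k).eval 1 ≠ 0 ∧
        (Q k).eval (-1) ≠ 0 ∧ (Module.finrank F V < k → Q k = 1)) ∧
      μ.sum + μ'.sum + ∑ j : Fin (Module.finrank F V), (1 + (j : ℕ)) * (Q (1 + j)).natDegree =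
        Module.finrank F V := by
  have hm : (-1 : F) * -1 = 1 := by ring
  obtain ⟨⟨hAK, hBK, haK⟩, hA1, hB1, ha1⟩ := restrict_genO hA hB a ha (one_mul 1)
  obtain ⟨⟨hAL, hBL, haL⟩, hA2, hB2, ha2⟩ := restrict_genO hA1 hB1 (onRan a 1) ha1 hm
  obtain ⟨μ, S, hμ⟩ := exists_partDataO h2 hAK hBK (onKer a 1) haK (one_mul 1) (nilpotent_onKer a 1)
  obtain ⟨μ', S', hμ'⟩ := exists_partDataO h2 hAL hBL (onKer (onRan a 1) (-1)) haL hm (nilpotent_onKer _ _)
  obtain ⟨D⟩ := exists_decomp (onRan (onRan a 1) (-1)).toLinearMap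
  have hfr : Module.finrank F (genRan (onRan a 1) (-1)) ≤ Module.finrank F V :=
    (Submodule.finrank_le _).trans (Submodule.finrank_le _)
  have hdata : HasDataO B a μ μ' S S' D.part := ⟨hμ, hμ', D, fun k _ => rfl⟩
  refine ⟨μ, μ', S, S', D.part, hdata, fun k hk => ?_, ?_⟩
  · obtain ⟨h0, hr, hev⟩ := part_props hB2 ha2 D k hk
    refine ⟨D.part_monic k, h0, hr, hev 1 fun v hv => ?_, hev (-1) fun v hv => shiftEnd_onRan_injective _ _ v ?_,
      fun h => part_eq_one_of_lt D (lt_of_le_of_lt hfr h)⟩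
    · refine Subtype.ext (shiftEnd_onRan_injective a 1 (v : genRan a 1) ?_)
      exact congrArg (fun w : genRan (onRan a 1) (-1) => ((w : genRan a 1) : V)) hv
    · exact congrArg Subtype.val hv
  · rw [sum_part_degree D hfr, hdata.finrank_rest]

end CfsgLib.ClassNumber
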