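import Cfsg.Agent.Lib.ClassCount.Orthogonal.Split
import Cfsg.Agent.Lib.ClassCount.Symplectic.Count

/-!
# Isometries of a symmetric space against signed self-reciprocal tuples
-/

set_option autoImplicit false

open Polynomial
open scoped Classical
open LinearMap (BilinForm)
open CfsgLib.Classical CfsgLib.Classical.ClassTheory

namespace CfsgLib.ClassNumber

universe u

variable {F : Type u} [Field F]

/-- The tuples with signs; the parities of the block sizes are exchanged. -/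
abbrev SgnTupO (F : Type u) [Field F] (N : ℕ) : Type u :=
  {t : Tup F N × (Fin N → Bool × Bool) // ∀ i : Fin N, CellOK (1 + (i : ℕ) + 1) (t.1.1 i) (t.2 i)}

variable [Fintype F] {V : Type u} [AddCommGroup V] [Module F V] [FiniteDimensional F V]

/-- The tuple of an isometry. -/
def TupData (B : BilinForm F V) (a : V ≃ₗ[F] V) {N : ℕ} (t : SgnTupO F N) : Prop :=
  ∃ μ μ' S S' Q, HasDataO B a μ μ' S S' Q ∧
    (∀ k, k ≠ 0 → (Q k).Monic ∧ (Q k).coeff 0 ≠ 0 ∧ (Q k).eval 1 ≠ 0 ∧ (Q k).eval (-1) ≠ 0 ∧ (N < k → Q k = 1)) ∧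
    μ.sum ≤ N ∧ μ'.sum ≤ N ∧
    (∀ i : Fin N, t.1.1.1 i = joinPart (Q (1 + (i : ℕ))) (μ.count (1 + (i : ℕ))) (μ'.count (1 + (i : ℕ)))) ∧
    ∀ i : Fin N, t.1.2 i = (decide (1 + (i : ℕ) ∈ S), decide (1 + (i : ℕ) ∈ S'))

omit [Fintype F] in
theorem HasDataO.signs {B : BilinForm F V} {a : V ≃ₗ[F] V} {μ μ' : Multiset ℕ} {S S' : Finset ℕ} {Q : ℕ → F[X]}
    (h : HasDataO B a μ μ' S S' Q) :
    ((∀ a ∈ μ, 0 < a) ∧ (∀ j, Even j → Even (μ.count j)) ∧ ∀ j ∈ S, Odd j ∧ j ∈ μ) ∧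
      (∀ a ∈ μ', 0 < a) ∧ (∀ j, Even j → Even (μ'.count j)) ∧ ∀ j ∈ S', Odd j ∧ j ∈ μ' := by
  obtain ⟨⟨_, -, -, h1⟩, ⟨_, -, -, h2⟩, -⟩ := h
  exact ⟨⟨h1.1, h1.2.2.1, h1.2.2.2.1⟩, h2.1, h2.2.2.1, h2.2.2.2.1⟩

theorem exists_tupData (h2 : (2 : F) ≠ 0) {B : BilinForm F V} (hA : ∀ u v, B u v = B v u) (hB : B.Nondegenerate)
    (a : V ≃ₗ[F] V) (ha : ∀ u v, B (a u) (a v) = B u v) {N : ℕ} (hN : Module.finrank F V = N) :
    ∃ t : SgnTupO F N, TupData B a t := by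
  obtain ⟨μ, μ', S, S', Q, hdata, hQ, hsum⟩ := exists_hasDataO h2 hA hB a ha
  rw [hN] at hsum
  obtain ⟨⟨hp1, hc1, hS⟩, hp2, hc2, hS'⟩ := hdata.signs
  have hle : μ.sum ≤ N ∧ μ'.sum ≤ N := by omega
  have hjp := fun k (hk : k ≠ 0) a b =>
    joinPart_props h2 (hQ k hk).1 (hQ k hk).2.1 (hQ k hk).2.2.2.1 (hQ k hk).2.2.2.2.1 a b
  let U : Tup F N :=
    ⟨fun j : Fin N => joinPart (Q (1 + (j : ℕ))) (μ.count (1 + (j : ℕ))) (μ'.count (1 + (j : ℕ))),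
      fun j => ⟨(hjp _ (by omega) _ _).1, (hjp _ (by omega) _ _).2.2.1⟩, by
      conv_rhs => rw [← hsum, ← sum_mul_count hp1 hle.1, ← sum_mul_count hp2 hle.2,
        ← Finset.sum_add_distrib, ← Finset.sum_add_distrib]
      refine Finset.sum_congr rfl fun j _ => ?_
      rw [(hjp _ (by omega) _ _).2.1]
      ring⟩
  refine ⟨⟨(U, fun i => (decide (1 + (i : ℕ) ∈ S), decide (1 + (i : ℕ) ∈ S'))), fun i => ?_⟩,
    μ, μ', S, S', Q, hdata, fun k hk => ⟨(hQ k hk).1, (hQ k hk).2.1, (hQ k hk).2.2.2.1, (hQ k hk).2.2.2.2.1,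
      fun h => (hQ k hk).2.2.2.2.2 (by omega)⟩, hle.1, hle.2, fun i => rfl, fun i => rfl⟩
  obtain ⟨hm, h0, hr, h1, hm1, -⟩ := hQ (1 + (i : ℕ)) (by omega)
  refine ⟨?_, fun hodd => ?_, fun hs => ?_, fun hs => ?_⟩
  · show recipPoly (joinPart _ _ _) = joinPart _ _ _
    rw [joinPart, recipPoly_mul, recipPoly_mul, recipPoly_pow, recipPoly_pow, hr, recipPoly_X_sub_C (one_mul 1),
      recipPoly_X_sub_C (show (-1 : F) * -1 = 1 by ring)]
  · have hev' : Even (1 + (i : ℕ)) := by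
      rw [Nat.even_iff]
      rw [Nat.odd_iff] at hodd
      omega
    obtain ⟨hev, hc0⟩ := self_no_root h2 h0 hr h1 hm1
    have he1 := hc1 _ hev'
    have he2 := hc2 _ hev'
    refine ⟨?_, ?_, ?_⟩
    · show Even (joinPart _ _ _).natDegree
      rw [(hjp _ (by omega) _ _).2.1]
      exact (hev.add he1).add he2
    · show (joinPart _ _ _).coeff 0 = 1
      rw [joinPart, mul_coeff_zero, mul_coeff_zero, hc0]
      simp [coeff_zero_eq_eval_zero, he1.neg_one_pow]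
    · exact Prod.ext (decide_eq_false fun h => Nat.not_even_iff_odd.2 (hS _ h).1 hev')
        (decide_eq_false fun h => Nat.not_even_iff_odd.2 (hS' _ h).1 hev')
  · have hc := Multiset.one_le_count_iff_mem.2 (hS _ (of_decide_eq_true hs)).2
    show (joinPart _ _ _).eval 1 = 0
    rw [joinPart, eval_mul, eval_mul, eval_pow, eval_sub, eval_X, eval_C, sub_self,
      zero_pow (by omega), mul_zero, zero_mul]
  · have hc := Multiset.one_le_count_iff_mem.2 (hS' _ (of_decide_eq_true hs)).2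
    show (joinPart _ _ _).eval (-1) = 0
    rw [joinPart, eval_mul, eval_pow (p := X - Polynomial.C (-1 : F)), eval_sub, eval_X, eval_C, sub_self,
      zero_pow (by omega), mul_zero]

omit [Fintype F] in
theorem ext_count {N : ℕ} {ν ν' : Multiset ℕ} (hν : ∀ a ∈ ν, 0 < a) (hν' : ∀ a ∈ ν', 0 < a) (hs : ν.sum ≤ N)
    (hs' : ν'.sum ≤ N) (he : ∀ i : Fin N, ν.count (1 + (i : ℕ)) = ν'.count (1 + (i : ℕ))) : ν = ν' := by
  refine Multiset.ext.2 fun j => ?_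
  by_cases hj : 1 ≤ j ∧ j ≤ N
  · have := he ⟨j - 1, by omega⟩
    simpa [show 1 + (j - 1) = j by omega] using this
  · have key : ∀ ν : Multiset ℕ, (∀ a ∈ ν, 0 < a) → ν.sum ≤ N → ν.count j = 0 := fun ν h1 h3 =>
      Multiset.count_eq_zero.2 fun hm => hj ⟨h1 j hm, (Multiset.le_sum_of_mem hm).trans h3⟩
    rw [key ν hν hs, key ν' hν' hs']

variable {V' : Type u} [AddCommGroup V'] [Module F V'] [FiniteDimensional F V']

/-- Tuples with the same polynomials give the same data up to signs. -/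
theorem TupData.common (h2 : (2 : F) ≠ 0) {N : ℕ} {B : BilinForm F V} {a : V ≃ₗ[F] V} {B' : BilinForm F V'}
    {a' : V' ≃ₗ[F] V'} {t t' : SgnTupO F N} (h : TupData B a t) (h' : TupData B' a' t') (he : t.1.1 = t'.1.1) :
    ∃ μ μ' S₁ S₂ T₁ T₂ Q, HasDataO B a μ μ' S₁ S₂ Q ∧ HasDataO B' a' μ μ' T₁ T₂ Q ∧
      μ.sum ≤ N ∧ μ'.sum ≤ N ∧
      (∀ i : Fin N, t.1.2 i = (decide (1 + (i : ℕ) ∈ S₁), decide (1 + (i : ℕ) ∈ S₂))) ∧
      (∀ i : Fin N, t'.1.2 i = (decide (1 + (i : ℕ) ∈ T₁), decide (1 + (i : ℕ) ∈ T₂))) ∧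
      ∀ i : Fin N, ((t.1.1.1 i).eval 1 = 0 → 1 + (i : ℕ) ∈ μ) ∧ ((t.1.1.1 i).eval (-1) = 0 → 1 + (i : ℕ) ∈ μ') := by
  obtain ⟨μ, μ', S₁, S₂, Q, hd, hQ, hs, hs', hU, hsg⟩ := h
  obtain ⟨ν, ν', T₁, T₂, Q', hd', hQ', ht, ht', hU', hsg'⟩ := h'
  have hjp := fun k (hk : k ≠ 0) a b =>
    joinPart_props h2 (hQ k hk).1 (hQ k hk).2.1 (hQ k hk).2.2.1 (hQ k hk).2.2.2.1 a b
  have hjp' := fun k (hk : k ≠ 0) a b =>
    joinPart_props h2 (hQ' k hk).1 (hQ' k hk).2.1 (hQ' k hk).2.2.1 (hQ' k hk).2.2.2.1 a b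
  have hP : ∀ i : Fin N, joinPart (Q (1 + (i : ℕ))) (μ.count (1 + (i : ℕ))) (μ'.count (1 + (i : ℕ))) =
      joinPart (Q' (1 + (i : ℕ))) (ν.count (1 + (i : ℕ))) (ν'.count (1 + (i : ℕ))) := fun i => by
    rw [← hU i, ← hU' i, he]
  have hcount : ∀ i : Fin N, μ.count (1 + (i : ℕ)) = ν.count (1 + (i : ℕ)) ∧
      μ'.count (1 + (i : ℕ)) = ν'.count (1 + (i : ℕ)) := fun i => by
    obtain ⟨-, -, -, a1, b1⟩ := hjp (1 + (i : ℕ)) (by omega) (μ.count (1 + (i : ℕ))) (μ'.count (1 + (i : ℕ)))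
    obtain ⟨-, -, -, a2, b2⟩ := hjp' (1 + (i : ℕ)) (by omega) (ν.count (1 + (i : ℕ))) (ν'.count (1 + (i : ℕ)))
    rw [hP i] at a1 b1
    exact ⟨a1.symm.trans a2, b1.symm.trans b2⟩
  obtain ⟨⟨hp, -, -⟩, hp', -, -⟩ := hd.signs
  obtain ⟨⟨hq, -, -⟩, hq', -, -⟩ := hd'.signs
  obtain rfl : μ = ν := ext_count hp hq hs ht fun i => (hcount i).1
  obtain rfl : μ' = ν' := ext_count hp' hq' hs' ht' fun i => (hcount i).2
  have eQ : ∀ k, k ≠ 0 → Q' k = Q k := fun k hk => by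
    by_cases hkn : k ≤ N
    · have e := hP ⟨k - 1, by omega⟩
      simp only [show 1 + (k - 1) = k by omega, joinPart] at e
      exact (mul_right_cancel₀ ((monic_X_sub_C (1 : F)).pow _).ne_zero
        (mul_right_cancel₀ ((monic_X_sub_C (-1 : F)).pow _).ne_zero e :)).symm
    · rw [(hQ k hk).2.2.2.2 (by omega), (hQ' k hk).2.2.2.2 (by omega)]
  obtain ⟨h1, h3, D, hD⟩ := hd'
  refine ⟨μ, μ', S₁, S₂, T₁, T₂, Q, hd, ⟨h1, h3, D, fun k hk => (hD k hk).trans (eQ k hk)⟩, hs, hs', hsg, hsg',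
    fun i => ⟨fun h0 => ?_, fun h0 => ?_⟩⟩
  · obtain ⟨-, -, hne, a1, -⟩ := hjp (1 + (i : ℕ)) (by omega) (μ.count (1 + (i : ℕ))) (μ'.count (1 + (i : ℕ)))
    rw [hU i] at h0
    by_contra hm
    rw [Multiset.count_eq_zero_of_notMem hm] at a1 h0 hne
    exact (rootMultiplicity_pos (fun e => hne (by rw [e, coeff_zero]))).2 h0 |>.ne' a1
  · obtain ⟨-, -, hne, -, b1⟩ := hjp (1 + (i : ℕ)) (by omega) (μ.count (1 + (i : ℕ))) (μ'.count (1 + (i : ℕ)))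
    rw [hU i] at h0
    by_contra hm
    rw [Multiset.count_eq_zero_of_notMem hm] at b1 h0 hne
    exact (rootMultiplicity_pos (fun e => hne (by rw [e, coeff_zero]))).2 h0 |>.ne' b1

omit [Fintype F] in
theorem finset_ext_of_signs {N : ℕ} {μ : Multiset ℕ} (hμ : ∀ a ∈ μ, 0 < a) (hs : μ.sum ≤ N) {S T : Finset ℕ}
    (hS : ∀ j ∈ S, Odd j ∧ j ∈ μ) (hT : ∀ j ∈ T, Odd j ∧ j ∈ μ) (j₀ : ℕ)
    (h : ∀ i : Fin N, 1 + (i : ℕ) ≠ j₀ → (1 + (i : ℕ) ∈ S ↔ 1 + (i : ℕ) ∈ T)) :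
    ∀ j, j ≠ j₀ → (j ∈ S ↔ j ∈ T) := fun j hj => by
  by_cases hjr : 1 ≤ j ∧ j ≤ N
  · have := h ⟨j - 1, by omega⟩ (by simp only; omega)
    simpa [show 1 + (j - 1) = j by omega] using this
  · have key : ∀ S : Finset ℕ, (∀ i ∈ S, Odd i ∧ i ∈ μ) → j ∉ S := fun S hS hjS =>
      hjr ⟨hμ j (hS j hjS).2, (Multiset.le_sum_of_mem (hS j hjS).2).trans hs⟩
    exact iff_of_false (key S hS) (key T hT)

/-- Equal tuples give an isometric intertwiner. -/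
theorem TupData.exists_isometry {p : ℕ} [Fact p.Prime] [CharP F p] (hp : p ≠ 2) (h2 : (2 : F) ≠ 0) {N : ℕ}
    {B : BilinForm F V} (hA : ∀ u v, B u v = B v u) (hB : B.Nondegenerate) {a : V ≃ₗ[F] V}
    (ha : ∀ u v, B (a u) (a v) = B u v) {B' : BilinForm F V'} (hA' : ∀ u v, B' u v = B' v u)
    (hB' : B'.Nondegenerate) {a' : V' ≃ₗ[F] V'} (ha' : ∀ u v, B' (a' u) (a' v) = B' u v)
    (hfr : Module.finrank F V = Module.finrank F V') {t : SgnTupO F N} (h : TupData B a t) (h' : TupData B' a' t) :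
    ∃ f : V ≃ₗ[F] V', (∀ v, f (a v) = a' (f v)) ∧ ∀ u v, B' (f u) (f v) = B u v := by
  obtain ⟨μ, μ', S₁, S₂, T₁, T₂, Q, hd, hd', hs, hs', hsg, hsg', -⟩ := h.common h2 h' rfl
  obtain ⟨⟨p1, -, hS1⟩, p2, -, hS2⟩ := hd.signs
  obtain ⟨⟨-, -, hT1⟩, -, -, hT2⟩ := hd'.signs
  have hbit : ∀ i : Fin N, (1 + (i : ℕ) ∈ S₁ ↔ 1 + (i : ℕ) ∈ T₁) ∧ (1 + (i : ℕ) ∈ S₂ ↔ 1 + (i : ℕ) ∈ T₂) := fun i =>
    ⟨decide_eq_decide.1 (congrArg Prod.fst ((hsg i).symm.trans (hsg' i))),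
      decide_eq_decide.1 (congrArg Prod.snd ((hsg i).symm.trans (hsg' i)))⟩
  have e1 : S₁ = T₁ := Finset.ext fun j => by
    rcases Nat.eq_zero_or_pos j with rfl | hj
    · exact iff_of_false (fun hh => Nat.lt_irrefl _ (p1 _ (hS1 _ hh).2)) (fun hh => Nat.lt_irrefl _ (p1 _ (hT1 _ hh).2))
    · exact finset_ext_of_signs p1 hs hS1 hT1 0 (fun i _ => (hbit i).1) j (by omega)
  have e2 : S₂ = T₂ := Finset.ext fun j => by
    rcases Nat.eq_zero_or_pos j with rfl | hj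
    · exact iff_of_false (fun hh => Nat.lt_irrefl _ (p2 _ (hS2 _ hh).2)) (fun hh => Nat.lt_irrefl _ (p2 _ (hT2 _ hh).2))
    · exact finset_ext_of_signs p2 hs' hS2 hT2 0 (fun i _ => (hbit i).2) j (by omega)
  subst e1 e2
  exact hd.exists_isometry hp h2 hA hB ha hA' hB' ha' hfr hd'

theorem PartDataO.discChar_eq {p : ℕ} [Fact p.Prime] [CharP F p] (hp : p ≠ 2) (h2 : (2 : F) ≠ 0)
    {B : BilinForm F V} {a : V ≃ₗ[F] V} {B' : BilinForm F V'} {a' : V' ≃ₗ[F] V'} {c : F} {μ : Multiset ℕ}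
    {S : Finset ℕ} (h : PartDataO B a c μ S) (h' : PartDataO B' a' c μ S) : discChar B = discChar B' := by
  obtain ⟨f, -, hf⟩ := h.exists_isometry hp h2 h'
  exact discChar_congr f hf

/-- Toggling one sign changes the square class of the determinant. -/
theorem HasDataO.discChar_toggle {p : ℕ} [Fact p.Prime] [CharP F p] (hp : p ≠ 2) (h2 : (2 : F) ≠ 0)
    {B : BilinForm F V} (hA : ∀ u v, B u v = B v u) (hB : B.Nondegenerate) {a : V ≃ₗ[F] V}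
    (ha : ∀ u v, B (a u) (a v) = B u v) {B' : BilinForm F V'} (hA' : ∀ u v, B' u v = B' v u)
    (hB' : B'.Nondegenerate) {a' : V' ≃ₗ[F] V'} (ha' : ∀ u v, B' (a' u) (a' v) = B' u v)
    (hfr : Module.finrank F V = Module.finrank F V') {μ μ' : Multiset ℕ} {S₁ S₂ T₁ T₂ : Finset ℕ} {Q : ℕ → F[X]}
    (h : HasDataO B a μ μ' S₁ S₂ Q) (h' : HasDataO B' a' μ μ' T₁ T₂ Q) {j : ℕ} (hjo : Odd j)
    (hor : (j ∈ μ ∧ S₂ = T₂ ∧ ∀ i ∈ μ, Odd i → ((i ∈ S₁ ↔ i ∈ T₁) ↔ i ≠ j)) ∨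
      (j ∈ μ' ∧ S₁ = T₁ ∧ ∀ i ∈ μ', Odd i → ((i ∈ S₂ ↔ i ∈ T₂) ↔ i ≠ j))) :
    discChar B' = -discChar B := by
  have e1 := h.finrank_rest
  have e2 := h'.finrank_rest
  obtain ⟨hp1, hp2, D, hD⟩ := h
  obtain ⟨hp1', hp2', D', hD'⟩ := h'
  have hm : (-1 : F) * -1 = 1 := by ring
  obtain ⟨-, hA1, hB1, ha1⟩ := restrict_genO hA hB a ha (one_mul 1)
  obtain ⟨-, hA1', hB1', ha1'⟩ := restrict_genO hA' hB' a' ha' (one_mul 1)
  obtain ⟨-, hA2, hB2, ha2⟩ := restrict_genO hA1 hB1 (onRan a 1) ha1 hm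
  obtain ⟨-, hA2', hB2', ha2'⟩ := restrict_genO hA1' hB1' (onRan a' 1) ha1' hm
  obtain ⟨L, hL⟩ := exists_equiv_of_part_eq D D' (by omega) fun k hk => (hD k hk).trans (hD' k hk).symm
  obtain ⟨f3, -, hf3b⟩ := exists_isometric_of_fpf 1 hB2
    (fun u v => by rw [one_mul, hA2]) hB2'
    (fun u v => by rw [one_mul, hA2']) (onRan (onRan a 1) (-1)) ha2
    (onRan (onRan a' 1) (-1)) ha2' L hL fun v hv => by
      set b := onRan (onRan a 1) (-1)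
      have hx : b v + v = 0 := by
        refine Subtype.ext (shiftEnd_onRan_injective a 1 ((b v + v : _) : genRan a 1) ?_)
        rw [one_smul]
        show ((b (b v + v) : genRan (onRan a 1) (-1)) : genRan a 1).1 = _
        rw [map_add, hv, add_comm]
      refine shiftEnd_onRan_injective (onRan a 1) (-1) v ?_
      rw [neg_one_smul]
      exact congrArg Subtype.val (eq_neg_of_add_eq_zero_left hx)
  have hR := discChar_congr f3 hf3b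
  rw [discChar_compl (isCompl_gen a 1) (perp_genO hA a ha (one_mul 1)),
    discChar_compl (isCompl_gen a' 1) (perp_genO hA' a' ha' (one_mul 1)),
    discChar_compl (isCompl_gen (onRan a 1) (-1)) (perp_genO hA1 (onRan a 1) ha1 hm),
    discChar_compl (isCompl_gen (onRan a' 1) (-1)) (perp_genO hA1' (onRan a' 1) ha1' hm), ← hR]
  rcases hor with ⟨hj, rfl, hiff⟩ | ⟨hj, rfl, hiff⟩
  · obtain ⟨_, -, -, hs⟩ := hp1
    obtain ⟨_, -, -, hs'⟩ := hp1'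
    rw [hs.discChar_toggle h2 hs' hj hjo hiff, hp2.discChar_eq hp h2 hp2', neg_mul]
  · obtain ⟨_, -, -, hs⟩ := hp2
    obtain ⟨_, -, -, hs'⟩ := hp2'
    rw [hs.discChar_toggle h2 hs' hj hjo hiff, hp1.discChar_eq hp h2 hp1', neg_mul, mul_neg]

end CfsgLib.ClassNumber
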